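import Cfsg.Agent.Lib.Linear.SpTensor.Ten

/-!
# Algebras invariant under symplectic transvections

A subalgebra of the endomorphisms of a symplectic space stable under conjugation by the symplectic
transvections and not consisting of scalars is everything.
-/

set_option autoImplicit false
set_option linter.unusedSectionVars false

namespace Cfsg.Lib.Linear.SpTensor

open Module
open scoped Matrix

variable {ι : Type} [Fintype ι] [DecidableEq ι] {F U W : Type*} [Field F]
  [AddCommGroup U] [Module F U] [FiniteDimensional F U]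
  [AddCommGroup W] [Module F W] [FiniteDimensional F W]
  {Q : (ι → F) → F} {B : LinearMap.BilinForm F (ι → F)}
  {α : LinearMap.BilinForm F U} {ω : LinearMap.BilinForm F W} {τ : U →ₗ[F] W →ₗ[F] (ι → F)}

theorem exists_not_eigen {φ : Module.End F U} (h : ∀ t : F, φ ≠ t • 1) :
    ∃ e : U, e ≠ 0 ∧ φ e ∉ Submodule.span F {e} := by
  by_contra hc
  push Not at hc
  have hl : ∀ e : U, ∃ t : F, φ e = t • e := fun e => by
    rcases eq_or_ne e 0 with rfl | he
    · exact ⟨0, by simp⟩
    · obtain ⟨t, ht⟩ := Submodule.mem_span_singleton.1 (hc e he)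
      exact ⟨t, ht.symm⟩
  by_cases h0 : ∀ e : U, e = 0
  · exact h 0 (LinearMap.ext fun e => by rw [h0 e]; simp)
  push Not at h0
  obtain ⟨e₀, he₀⟩ := h0
  obtain ⟨t₀, ht₀⟩ := hl e₀
  have hout : ∀ a, a ∉ Submodule.span F {e₀} → φ a = t₀ • a := by
    intro a ha
    obtain ⟨t, ht⟩ := hl a
    obtain ⟨s, hs⟩ := hl (e₀ + a)
    rw [map_add, ht₀, ht, smul_add] at hs
    have h1 : (t₀ - s) • e₀ = (s - t) • a := by
      rw [sub_smul, sub_smul]
      linear_combination (norm := module) hs
    have h2 : s - t = 0 := by
      by_contra hne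
      exact ha (Submodule.mem_span_singleton.2 ⟨(s - t)⁻¹ * (t₀ - s), by
        rw [mul_smul, h1, smul_smul, inv_mul_cancel₀ hne, one_smul]⟩)
    rw [h2, zero_smul, smul_eq_zero, or_iff_left he₀] at h1
    rw [ht, ← sub_eq_zero.1 h2, ← sub_eq_zero.1 h1]
  refine h t₀ (LinearMap.ext fun a => ?_)
  by_cases ha : a ∈ Submodule.span F {e₀}
  · obtain ⟨r, rfl⟩ := Submodule.mem_span_singleton.1 ha
    simp [ht₀, smul_smul, mul_comm]
  · simp [hout a ha]

open Ten in
theorem eq_top_of_conj [Finite F] (T : Ten Q B α ω τ) (C : Subalgebra F (Module.End F U))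
    (hC : ∀ φ ∈ C, ∀ (e : U) (c : F),
      (LinearMap.id + c • rk (α := α) e e) ∘ₗ φ ∘ₗ (LinearMap.id - c • rk (α := α) e e) ∈ C)
    (hm : (finrank F U = 2 ∧ 3 ≤ Nat.card F) ∨ 4 ≤ finrank F U)
    {φ : Module.End F U} (hφ : φ ∈ C) (hns : ∀ t : F, φ ≠ t • 1) : C = ⊤ := by
  classical
  have hself := T.α_self
  have hconj : ∀ ψ ∈ C, ∀ (e : U) (c : F), (c • (rk (α := α) e e ∘ₗ ψ - ψ ∘ₗ rk (α := α) e e) -
      (c * c) • (rk (α := α) e e ∘ₗ ψ ∘ₗ rk (α := α) e e) : Module.End F U) ∈ C := by
    intro ψ hψ e c
    convert C.sub_mem (hC ψ hψ e c) hψ using 1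
    refine LinearMap.ext fun a => ?_
    simp only [LinearMap.sub_apply, LinearMap.smul_apply, LinearMap.comp_apply, LinearMap.add_apply,
      LinearMap.id_apply, map_sub, map_add, map_smul]
    module
  obtain ⟨e, he, hne⟩ := exists_not_eigen hns
  obtain ⟨u, hu, hN⟩ : ∃ u : U, u ≠ 0 ∧ (rk (α := α) u u : Module.End F U) ∈ C := by
    by_cases hd : α (φ e) e ≠ 0 ∧ 3 ≤ Nat.card F
    · obtain ⟨hd, hq⟩ := hd
      obtain ⟨ε, hε0, hε1⟩ : ∃ ε : F, ε ≠ 0 ∧ ε ≠ 1 := by
        by_contra h
        push Not at h
        have := Fintype.ofFinite F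
        have h2 : (Finset.univ : Finset F) ⊆ {0, 1} := fun x _ => by
          rcases eq_or_ne x 0 with rfl | hx
          · simp
          · simp [h x hx]
        have := (Finset.card_le_card h2).trans Finset.card_le_two
        rw [Finset.card_univ, ← Nat.card_eq_fintype_card] at this
        omega
      refine ⟨e, he, ?_⟩
      have h3 := C.smul_mem (C.sub_mem (hconj φ hφ e ε) (C.smul_mem (hconj φ hφ e 1) ε))
        (((ε - ε * ε) * α (φ e) e)⁻¹)
      convert h3 using 1
      refine LinearMap.ext fun a => ?_
      have hne : (ε - ε * ε) * α (φ e) e ≠ 0 :=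
        mul_ne_zero (by rw [show ε - ε * ε = ε * (1 - ε) by ring]
                        exact mul_ne_zero hε0 (sub_ne_zero.2 (Ne.symm hε1))) hd
      simp only [LinearMap.smul_apply, LinearMap.sub_apply, LinearMap.comp_apply, rk_apply,
        map_smul, smul_eq_mul, one_smul, mul_one]
      rw [show α a e • e = (((ε - ε * ε) * α (φ e) e)⁻¹ * ((ε - ε * ε) * α (φ e) e) * α a e) • e by
        rw [inv_mul_cancel₀ hne, one_mul]]
      module
    have hm4 : 4 ≤ finrank F U := by
      rcases hm with ⟨h2, hq⟩ | h4
      · exfalso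
        refine hd ⟨fun h0 => hne ?_, hq⟩
        obtain ⟨y, hy⟩ := T.swap.exists_nonorth he
        by_contra hns'
        obtain ⟨z, hz, hz'⟩ := T.swap.exists_dual _ hns'
        have hze : α e z = 0 := hz e (Submodule.mem_span_singleton_self e)
        have hli : LinearIndependent F ![e, φ e] := by
          rw [LinearIndependent.pair_iff' he]
          exact fun t ht => hns' (ht ▸ Submodule.smul_mem _ t (Submodule.mem_span_singleton_self e))
        have htop : Submodule.span F (Set.range ![e, φ e]) = ⊤ :=
          hli.span_eq_top_of_card_eq_finrank (by simp [h2])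
        obtain ⟨s, hs⟩ := (Submodule.mem_span_range_iff_exists_fun F).1
          (htop ▸ Submodule.mem_top : y ∈ Submodule.span F (Set.range ![e, φ e]))
        rw [Fin.sum_univ_two] at hs
        rw [← hs] at hy
        simp [hself, T.α_symm e (φ e), h0] at hy
      · exact h4
    -- a vector with prescribed pairings
    obtain ⟨f₀, hf₀, hf₀'⟩ := T.swap.exists_dual (Submodule.span F {e}) hne
    have hef₀ : α e f₀ = 0 := hf₀ e (Submodule.mem_span_singleton_self e)
    obtain ⟨f, hef, hfφ, hfe⟩ : ∃ f : U, α f e = 0 ∧ α f (φ e) = 1 ∧ f ∉ Submodule.span F {e} := by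
      have h1 : α (-f₀) e = 0 := by simp [T.α_symm f₀ e, hef₀]
      have h2 : α (-f₀) (φ e) = 1 := by simp [T.α_symm f₀ (φ e), hf₀']
      by_cases hin : -f₀ ∈ Submodule.span F {e}
      · obtain ⟨g, hg, hg1, -⟩ := exists_avoid (ω := α) ![e, φ e] (Submodule.span F {e}) ⊥
          (by rw [finrank_span_singleton he]; omega) (by simp; omega)
        have hge : α g e = 0 := hg 0
        have hgφ : α g (φ e) = 0 := hg 1
        refine ⟨-f₀ + g, by rw [map_add, LinearMap.add_apply, h1, hge, add_zero],
          by rw [map_add, LinearMap.add_apply, h2, hgφ, add_zero],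
          fun h => hg1 (by simpa using Submodule.sub_mem _ h hin)⟩
      · exact ⟨-f₀, h1, h2, hin⟩
    obtain ⟨h', hh', hfh'⟩ := T.swap.exists_dual _ hfe
    have heh' : α e h' = 0 := hh' e (Submodule.mem_span_singleton_self e)
    set h := -h' with hh
    have ehe : α h e = 0 := by simp [hh, T.α_symm h' e, heh']
    have ehf : α h f = 1 := by simp [hh, T.α_symm h' f, hfh']
    have efe : α e f = 0 := by rw [T.α_symm, hef, neg_zero]
    have eeh : α e h = 0 := by rw [T.α_symm, ehe, neg_zero]
    have efh : α f h = -1 := by rw [T.α_symm, ehf]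
    have eφf : α (φ e) f = -1 := by rw [T.α_symm, hfφ]
    set b := α (φ f) e
    set X' : Module.End F U := rk (α := α) f e - b • rk (α := α) e f with hX'
    have hX'C : X' ∈ C := by
      convert hconj _ (hconj φ hφ e 1) f 1 using 1
      refine LinearMap.ext fun a => ?_
      simp only [hX', LinearMap.smul_apply, LinearMap.sub_apply, LinearMap.comp_apply, rk_apply,
        map_smul, map_sub, hef, efe, eφf, smul_eq_mul, mul_zero, sub_zero,
        zero_mul, zero_smul, smul_zero, map_zero, LinearMap.zero_apply, one_smul, mul_one, hself, b]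
      module
    set Y : Module.End F U := rk (α := α) h e - b • rk (α := α) e h with hY
    have hYC : Y ∈ C := by
      convert C.neg_mem (hconj _ hX'C h 1) using 1
      refine LinearMap.ext fun a => ?_
      simp only [hY, hX', LinearMap.neg_apply, LinearMap.smul_apply, LinearMap.sub_apply,
        LinearMap.comp_apply, rk_apply, map_smul, map_sub, ehe, eeh, ehf, efh, hef, efe, smul_eq_mul,
        mul_zero, sub_zero, zero_mul, zero_smul, smul_zero, map_zero, LinearMap.zero_apply, one_smul, mul_one, hself]
      module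
    rcases eq_or_ne b 0 with hb | hb
    · have hfe' : (rk (α := α) f e : Module.End F U) ∈ C := by
        rw [hX', hb, zero_smul, sub_zero] at hX'C
        exact hX'C
      have key : ∀ g : U, α g e = 0 → α f g = -1 → (rk (α := α) g e : Module.End F U) ∈ C := by
        intro g hg hg'
        have heg : α e g = 0 := by rw [T.α_symm, hg, neg_zero]
        convert C.neg_mem (hconj _ hfe' g 1) using 1
        refine LinearMap.ext fun a => ?_
        simp only [LinearMap.neg_apply, LinearMap.smul_apply, LinearMap.sub_apply,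
          LinearMap.comp_apply, rk_apply, map_smul, hg, heg, hg', smul_eq_mul, mul_zero, sub_zero,
          zero_mul, zero_smul, smul_zero, map_zero, LinearMap.zero_apply, one_smul, mul_one]
        module
      refine ⟨e, he, ?_⟩
      convert C.sub_mem (key (h + e) (by simp [ehe, hself]) (by simp [efh, hef])) (key h ehe efh) using 1
      refine LinearMap.ext fun a => ?_
      simp only [LinearMap.sub_apply, rk_apply, smul_add]
      abel
    · refine ⟨e, he, ?_⟩
      convert C.smul_mem (C.mul_mem hX'C hYC) (-b⁻¹) using 1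
      refine LinearMap.ext fun a => ?_
      simp only [Module.End.mul_apply, hX', hY, LinearMap.smul_apply, LinearMap.sub_apply, rk_apply,
        map_smul, map_sub, ehe, eeh, ehf, efe, hself, smul_eq_mul, mul_zero, sub_zero,
        zero_smul, smul_zero, zero_sub, mul_one]
      rw [show α a e • e = (b⁻¹ * b * α a e) • e by rw [inv_mul_cancel₀ hb, one_mul]]
      module
  -- all transvections
  have stepN : ∀ p r : U, (rk (α := α) p p : Module.End F U) ∈ C → α p r ≠ 0 →
      (rk (α := α) r r : Module.End F U) ∈ C := by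
    intro p r hp hpr
    convert hC _ hp (r - p) (α p r)⁻¹ using 1
    have e1 : α p (r - p) = α p r := by simp [hself]
    refine LinearMap.ext fun a => ?_
    simp only [LinearMap.comp_apply, LinearMap.add_apply, LinearMap.sub_apply, LinearMap.id_apply,
      LinearMap.smul_apply, rk_apply, map_smul, map_sub, smul_eq_mul, hself]
    rw [T.α_symm r p]
    match_scalars <;> field_simp <;> ring
  have hall : ∀ r : U, (rk (α := α) r r : Module.End F U) ∈ C := by
    intro r
    rcases eq_or_ne r 0 with rfl | hr
    · convert C.zero_mem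
      exact LinearMap.ext fun a => by simp [rk_apply]
    obtain ⟨a, ha⟩ := T.swap.exists_nonorth hu
    obtain ⟨b, hb⟩ := T.swap.exists_nonorth hr
    by_cases har : α a r = 0
    · by_cases hub : α u b = 0
      · refine stepN (a + b) r (stepN u (a + b) hN (by simp [ha, hub])) ?_
        rw [map_add, LinearMap.add_apply, har, T.α_symm b r, hb]
        simp
      · exact stepN b r (stepN u b hN hub) (by rw [T.α_symm b r, hb]; simp)
    · exact stepN a r (stepN u a hN (by simp [ha])) har
  have hnon : ∀ a b : U, α b a ≠ 0 → (rk (α := α) a b : Module.End F U) ∈ C := by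
    intro a b h
    convert C.smul_mem (C.mul_mem (hall a) (hall b)) (α b a)⁻¹ using 1
    refine LinearMap.ext fun c => ?_
    simp [Module.End.mul_apply, rk_apply, smul_smul]
    field_simp
  have hrk : ∀ a b : U, (rk (α := α) a b : Module.End F U) ∈ C := by
    intro a b
    rcases eq_or_ne a 0 with rfl | ha
    · convert C.zero_mem
      exact LinearMap.ext fun c => by simp [rk_apply]
    by_cases h : α b a = 0
    · obtain ⟨a', ha'⟩ := T.swap.exists_nonorth ha
      convert C.add_mem (hnon a a' (by rw [T.α_symm, ha']; simp))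
        (hnon a (b - a') (by simp [h, T.α_symm a' a, ha'])) using 1
      refine LinearMap.ext fun c => ?_
      simp only [LinearMap.add_apply, rk_apply, map_sub, sub_smul]
      abel
    · exact hnon a b h
  refine eq_top_iff.2 fun M _ => ?_
  let bs := Module.finBasis F U
  have hd : ∀ i, ∃ d : U, ∀ c, α c d = bs.coord i c := fun i => by
    refine ⟨-((α.toDual T.nα).symm (bs.coord i)), fun c => ?_⟩
    rw [map_neg, T.α_symm, LinearMap.BilinForm.apply_toDual_symm_apply, neg_neg]
  choose d hd using hd
  have : M = ∑ i, (rk (α := α) (M (bs i)) (d i) : Module.End F U) := by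
    refine LinearMap.ext fun c => ?_
    rw [LinearMap.sum_apply]
    simp only [rk_apply, hd]
    conv_lhs => rw [← bs.sum_repr c, map_sum]
    simp
  rw [this]
  exact C.sum_mem fun i _ => hrk _ _

end Cfsg.Lib.Linear.SpTensor
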