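import Cfsg.Agent.Lib.Linear.SpTensor.Descent
import Cfsg.Agent.Lib.Linear.SpTensor.Alg

/-!
# Generation by the Siegel elements of pure vectors

All Siegel elements are obtained once every coefficient is available, and conversely the
transvections of both factors are products of Siegel elements.
-/

set_option autoImplicit false
set_option linter.unusedSectionVars false

namespace Cfsg.Lib.Linear.SpTensor

open Module
open scoped Matrix
open Cfsg.Lib.Linear.Orth

variable {ι : Type} [Fintype ι] [DecidableEq ι] {F U W : Type*} [Field F]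
  [AddCommGroup U] [Module F U] [FiniteDimensional F U]
  [AddCommGroup W] [Module F W] [FiniteDimensional F W]
  {Q : (ι → F) → F} {B : LinearMap.BilinForm F (ι → F)}
  {α : LinearMap.BilinForm F U} {ω : LinearMap.BilinForm F W} {τ : U →ₗ[F] W →ₗ[F] (ι → F)}
  {G : Subgroup (GL ι F)}

theorem sGL_zero_left (C : Space Q B) (w : ι → F) : sGL Q B 0 w = 1 := gl_ext fun v => by
  rw [sGL_act C C.zero (by simp), Units.val_one, Matrix.one_mulVec]
  simp

theorem sGL_zero_right (C : Space Q B) {u : ι → F} (hu : Q u = 0) : sGL Q B u 0 = 1 :=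
  gl_ext fun v => by
    rw [sGL_act C hu (map_zero _), Units.val_one, Matrix.one_mulVec, C.zero]
    simp

theorem sGL_inv' (C : Space Q B) {u a : ι → F} (hu : Q u = 0) (hua : B u a = 0) :
    (sGL Q B u a)⁻¹ = sGL Q B u (-a) := inv_eq_of_mul_eq_one_right (by
  rw [sGL_mul C hu hua (by rw [map_neg, hua, neg_zero]), add_neg_cancel, sGL_zero_right C hu])

theorem sGL_swap (C : Space Q B) {u w : ι → F} (hu : Q u = 0) (hw : Q w = 0) (huw : B u w = 0) :
    sGL Q B u w = sGL Q B w (-u) := gl_ext fun v => by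
  rw [sGL_act C hu huw, sGL_act C hw (by rw [map_neg, C.symm, huw, neg_zero]), hw, C.neg, hu]
  simp only [map_neg, LinearMap.neg_apply, zero_mul, add_zero, smul_neg, neg_smul]
  abel

/-- Two opposite full centres generate all Siegel elements. -/
theorem root_le_of_two (C : Space Q B) (hle : G ≤ isometryGroup F Q) {x f : ι → F} (hx : Q x = 0)
    (hf : Q f = 0) (hxf : B x f = 1) (Fx : ∀ y, B x y = 0 → sGL Q B x y ∈ G)
    (Ff : ∀ y, B f y = 0 → sGL Q B f y ∈ G) : Root Q B ⊤ ≤ G := by
  have move : ∀ {x f z : ι → F}, Q x = 0 → Q f = 0 → B x f = 1 →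
      (∀ y, B x y = 0 → sGL Q B x y ∈ G) → (∀ y, B f y = 0 → sGL Q B f y ∈ G) → Q z = 0 →
      B x z ≠ 0 → ∀ {y : ι → F}, B z y = 0 → sGL Q B z y ∈ G := by
    intro x f z hx hf hxf Fx Ff hz hxz y hy
    set c := B x z
    set z' := c⁻¹ • z with hz'
    have hQz' : Q z' = 0 := by rw [hz', C.smul, hz, mul_zero]
    have hxz' : B x z' = 1 := by rw [hz', map_smul, smul_eq_mul, inv_mul_cancel₀ hxz]
    set a := z' - f - B f z' • x
    have hxa : B x a = 0 := by simp [a, hxz', hxf, C.self_zero hx]
    have hfx : B f x = 1 := by rw [C.symm, hxf]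
    have hfa : B a f = 0 := by
      rw [C.symm]
      simp [a, C.self_zero hf, hfx]
    have hQa : Q a = -B f z' := by
      have e : z' = a + f + B f z' • x := by simp only [a]; abel
      have h1 : Q z' = Q a + B f z' + B a f := by
        conv_lhs => rw [e]
        rw [C.add, C.add, C.smul, hx, hf]
        simp only [map_add, LinearMap.add_apply, map_smul, C.symm a x, hxa, hfx, smul_eq_mul]
        ring
      rw [hQz', hfa] at h1
      linear_combination -h1
    have hmove : (sGL Q B x a).val *ᵥ f = z' := by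
      rw [sGL_act C hx hxa, hxf, hfa, hQa]
      simp only [a]
      module
    set M := sGL Q B x a
    have hM : M ∈ G := Fx a hxa
    set y₀ := (M⁻¹ : GL ι F).val *ᵥ (c • y)
    have hfy₀ : B f y₀ = 0 := by
      rw [← C.B_act (hle hM), hmove, act_inv, hz', LinearMap.map_smul₂, map_smul, hy, smul_zero,
        smul_zero]
    have h1 := sGL_conj C hf hfy₀ (hle hM)
    rw [hmove, act_inv] at h1
    have h2 : sGL Q B z y = sGL Q B z' (c • y) := by
      rw [← sGL_smul C hQz' (by rw [hz', LinearMap.map_smul₂, hy, smul_zero]),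
        hz', smul_smul, mul_inv_cancel₀ hxz, one_smul]
    rw [h2, ← h1]
    exact G.mul_mem (G.mul_mem hM (Ff y₀ hfy₀)) (G.inv_mem hM)
  refine (Subgroup.closure_le _).2 ?_
  rintro _ ⟨z, a, -, -, hz, hza, rfl⟩
  rcases eq_or_ne z 0 with rfl | hz0
  · rw [sGL_zero_left C]
    exact G.one_mem
  by_cases hxz : B x z = 0
  swap
  · exact move hx hf hxf Fx Ff hz hxz hza
  obtain ⟨z₂, hz₂, hxz₂, hzz₂⟩ : ∃ z₂, Q z₂ = 0 ∧ B x z₂ = 1 ∧ B z z₂ ≠ 0 := by
    by_cases hzg : B z f = 0
    · obtain ⟨w, hw⟩ : ∃ w, B z w ≠ 0 := by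
        by_contra hc
        push Not at hc
        exact hz0 (C.nondeg' hc)
      set w' := w - B f w • x - B x w • f with hw'
      have hfx : B f x = 1 := by rw [C.symm, hxf]
      have hxw : B x w' = 0 := by simp [hw', C.self_zero hx, hxf]
      have hfw : B f w' = 0 := by simp [hw', C.self_zero hf, hfx]
      have hzw : B z w' ≠ 0 := by
        simpa [hw', C.symm z x, hxz, hzg] using hw
      refine ⟨f + w' - Q w' • x, ?_, ?_, ?_⟩
      · rw [sub_eq_add_neg, ← neg_smul, C.add, C.add, C.smul, hx, hf, map_add, LinearMap.add_apply,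
          map_smul (B f), map_smul (B w'), C.symm f x, hxf, C.symm w' x, hxw, hfw]
        simp only [smul_eq_mul]
        ring
      · simp [C.self_zero hx, hxf, hxw]
      · simpa [hzg, C.symm z x, hxz] using hzw
    · exact ⟨f, hf, hxf, hzg⟩
  have Fz₂ : ∀ y, B z₂ y = 0 → sGL Q B z₂ y ∈ G := fun y hy =>
    move hx hf hxf Fx Ff hz₂ (by rw [hxz₂]; exact one_ne_zero) hy
  exact move hz₂ hx (by rw [C.symm, hxz₂]) Fz₂ Fx hz (by rwa [C.symm]) hza

variable (T : Ten Q B α ω τ)
include T

/-- All coefficients give the Siegel elements of all pure centres. -/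
theorem full_pure (hle : G ≤ isometryGroup F Q) (hk : 6 ≤ finrank F W) (hall : ∀ φ, Good T G φ)
    {a : U} {x : W} (ha : a ≠ 0) (hx : x ≠ 0) {w : ι → F} (hw : B (τ a x) w = 0) :
    sGL Q B (τ a x) w ∈ G := by
  have C := T.space
  have hpair : ∀ (c d : U) (y z : W), ω y z = 0 → y ≠ 0 → z ∉ Submodule.span F {y} →
      sGL Q B (τ c y) (τ d z) ∈ G := fun c d y z hyz hy hz =>
    sGL_mem_of_inA C (T.sing _ _) (T.sing _ _) (by rw [T.pair, hyz, mul_zero])
      (hall (-Ten.rk (α := α) c d) y z hy hz hyz) fun v => (T.siegel_eq c d y z v).symm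
  have hpure : ∀ (b : U) (x' : W), B (τ a x) (τ b x') = 0 → sGL Q B (τ a x) (τ b x') ∈ G := by
    intro b x' hB
    set u := τ a x with hu
    set t := τ b x' with ht
    rcases eq_or_ne x' 0 with rfl | hx'
    · rw [ht, map_zero, sGL_zero_right C (T.sing _ _)]
      exact G.one_mem
    obtain ⟨y, hy, hy1, -⟩ := Ten.exists_avoid (ω := ω) ![x, x'] (Submodule.span F {x, x'}) ⊥
      (by have := Ten.finrank_pair_le (F := F) x x'; omega) (by simp; omega)
    have hyx : ω y x = 0 := hy 0
    have hyx' : ω y x' = 0 := hy 1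
    obtain ⟨y', hp, hyy'⟩ := T.exists_dual _ hy1
    have hxy' := hp x (Submodule.mem_span_pair.2 ⟨1, 0, by simp⟩)
    have hx'y' := hp x' (Submodule.mem_span_pair.2 ⟨0, 1, by simp⟩)
    obtain ⟨c', hc'⟩ := T.swap.exists_nonorth ha
    set v := τ a y
    set v' := τ c' y'
    have hu0 : Q u = 0 := T.sing _ _
    have ht0 : Q t = 0 := T.sing _ _
    have hv0 : Q v = 0 := T.sing _ _
    have hv'0 : Q v' = 0 := T.sing _ _
    have huv : B u v = 0 := by rw [hu, T.pair, T.α_self, zero_mul]
    have huv' : B u v' = 0 := by rw [hu, T.pair, hxy', mul_zero]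
    have hvv' : B v v' = 1 := by rw [T.pair, hc', hyy', one_mul]
    have hv't : B v' t = 0 := by rw [ht, T.pair, T.ω_symm y' x', hx'y', neg_zero, mul_zero]
    have hvt : B v t = 0 := by rw [ht, T.pair, hyx', mul_zero]
    have hy'0 : y' ≠ 0 := fun e => by simp [e] at hyy'
    have hg : sGL Q B u v ∈ G := hpair a a x y (by rw [T.ω_symm, hyx, neg_zero]) hx
      fun hm => hy1 (Submodule.span_mono (by simp) hm)
    have hh : sGL Q B v' t ∈ G := by
      refine hpair c' b y' x' (by rw [T.ω_symm, hx'y', neg_zero]) hy'0 fun hm => ?_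
      obtain ⟨s, hs⟩ := Submodule.mem_span_singleton.1 hm
      have h0 : ω y x' = 0 := hyx'
      rw [← hs, map_smul, hyy', smul_eq_mul, mul_one] at h0
      rw [h0, zero_smul] at hs
      exact hx' hs.symm
    have hgi := hle hg
    have e1 : (sGL Q B u v).val *ᵥ v' = v' - u := by
      rw [sGL_act C hu0 huv, huv', hvv', hv0]
      simp
    have e2 : (sGL Q B u v).val *ᵥ t = t := by
      rw [sGL_act C hu0 huv, hB, hvt, hv0]
      simp
    have h1 := sGL_conj C hv'0 hv't hgi
    rw [e1, e2] at h1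
    have h2 : sGL Q B (v' - u) t ∈ G := h1 ▸ G.mul_mem (G.mul_mem hg hh) (G.inv_mem hg)
    have hQd : Q (v' - u) = 0 := by
      rw [sub_eq_add_neg, C.add, C.neg, hv'0, hu0, map_neg, C.symm v' u, huv']
      ring
    have hdt : B (v' - u) t = 0 := by rw [map_sub, LinearMap.sub_apply, hv't, hB, sub_zero]
    rw [sGL_swap C hQd ht0 hdt, neg_sub] at h2
    rw [sGL_swap C hv'0 ht0 hv't] at hh
    have htv' : B t (-v') = 0 := by rw [map_neg, C.symm, hv't, neg_zero]
    have htd : B t (u - v') = 0 := by rw [map_sub, C.symm t u, hB, C.symm t v', hv't, sub_zero]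
    have htv : B t v' = 0 := by rw [C.symm, hv't]
    have h3 := G.mul_mem h2 (G.inv_mem hh)
    rw [sGL_inv' C ht0 htv', neg_neg, sGL_mul C ht0 htd htv, sub_add_cancel] at h3
    rw [sGL_swap C hu0 ht0 hB, ← sGL_inv' C ht0 (by rw [C.symm, hB])]
    exact G.inv_mem h3
  let P : Submodule F (ι → F) :=
    { carrier := {w | B (τ a x) w = 0 ∧ ∀ c : F, sGL Q B (τ a x) (c • w) ∈ G}
      add_mem' := fun {w w'} h h' => ⟨by rw [map_add, h.1, h'.1, add_zero], fun c => by
        rw [smul_add, ← sGL_mul C (T.sing a x) (by rw [map_smul, h.1, smul_zero])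
          (by rw [map_smul, h'.1, smul_zero])]
        exact mul_mem (h.2 c) (h'.2 c)⟩
      zero_mem' := ⟨map_zero _, fun c => by
        rw [smul_zero, sGL_zero_right C (T.sing a x)]; exact G.one_mem⟩
      smul_mem' := fun c w h => ⟨by rw [map_smul, h.1, smul_zero], fun d => by
        rw [smul_smul]; exact h.2 _⟩ }
  have hP : ∀ b x', B (τ a x) (τ b x') = 0 → τ b x' ∈ P := fun b x' h => ⟨h, fun c => by
    have e : c • τ b x' = τ (c • b) x' := by rw [map_smul, LinearMap.smul_apply]
    rw [e]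
    exact hpure _ _ (by rw [← e, map_smul, h, smul_zero])⟩
  obtain ⟨a₀, ha₀⟩ := T.swap.exists_nonorth ha
  obtain ⟨x₀, hx₀⟩ := T.exists_nonorth hx
  let L : (ι → F) →ₗ[F] (ι → F) := LinearMap.id - (B (τ a x)).smulRight (τ a₀ x₀)
  have hL : (⊤ : Submodule F (ι → F)) ≤ P.comap L := by
    rw [← T.span, Submodule.span_le]
    rintro _ ⟨⟨b, x'⟩, rfl⟩
    show L (τ b x') ∈ P
    have e : L (τ b x') = τ b (x' - ω x x' • x₀) + ω x x' • τ (b - α a b • a₀) x₀ := by
      simp [L, T.pair, smul_sub, smul_smul, mul_comm]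
    rw [e]
    refine P.add_mem (hP _ _ ?_) (P.smul_mem _ (hP _ _ ?_))
    · simp [T.pair, hx₀]
      ring
    · simp [T.pair, ha₀]
  have h1 : L w ∈ P := hL trivial
  have h2 : L w = w := by simp [L, hw]
  rw [h2] at h1
  simpa using h1.2 1

/-- Every coefficient available gives the whole group generated by Siegel elements. -/
theorem root_le_of_all (hle : G ≤ isometryGroup F Q) (hk : 6 ≤ finrank F W) (hU : 0 < finrank F U)
    (hall : ∀ φ, Good T G φ) : Root Q B ⊤ ≤ G := by
  obtain ⟨a, ha⟩ : ∃ a : U, a ≠ 0 := by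
    by_contra hc
    push Not at hc
    have : Subsingleton U := ⟨fun a b => by rw [hc a, hc b]⟩
    rw [finrank_zero_of_subsingleton] at hU
    omega
  obtain ⟨x, hx⟩ : ∃ x : W, x ≠ 0 := by
    by_contra hc
    push Not at hc
    have : Subsingleton W := ⟨fun a b => by rw [hc a, hc b]⟩
    rw [finrank_zero_of_subsingleton] at hk
    omega
  obtain ⟨b, hb⟩ := T.swap.exists_nonorth ha
  obtain ⟨y, hy⟩ := T.exists_nonorth hx
  have hb0 : b ≠ 0 := fun e => by simp [e] at hb
  have hy0 : y ≠ 0 := fun e => by simp [e] at hy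
  exact root_le_of_two T.space hle (T.sing a x) (T.sing b y) (by rw [T.pair, hb, hy, one_mul])
    (fun w hw => full_pure T hle hk hall ha hx hw) (fun w hw => full_pure T hle hk hall hb0 hy0 hw)

/-- The transvections of the second factor are products of Siegel elements. -/
theorem long_mem_root (z : W) (c : F) : InA (Root Q B ⊤) (c • T.lin z z LinearMap.id) := by
  classical
  have C := T.space
  have hrk : ∀ a b : U, InA (Root Q B ⊤) (T.sh z z (-Ten.rk (α := α) a b)) := fun a b =>
    inA_of_sGL C (T.sing a z) (T.sing b z) (by rw [T.pair, T.ω_self, mul_zero])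
      (sGL_mem_root trivial trivial (T.sing a z) (by rw [T.pair, T.ω_self, mul_zero]))
      fun v => (T.siegel_eq a b z z v).symm
  let bs := Module.finBasis F U
  let M : Matrix (Fin (finrank F U)) (Fin (finrank F U)) F := fun i j =>
    if i < j then α (bs i) (bs j) else 0
  let β : LinearMap.BilinForm F U := Matrix.toBilin bs M
  let φ : U →ₗ[F] U := (α.toDual T.nα).symm.toLinearMap ∘ₗ (β : U →ₗ[F] Module.Dual F U)
  have hφ : ∀ a b, α (φ a) b = β a b := fun a b => by
    simp [φ, LinearMap.BilinForm.apply_toDual_symm_apply]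
  have hβ : β - β.flip = α := LinearMap.BilinForm.ext_basis bs fun i j => by
    have hb : ∀ i j, β (bs i) (bs j) = M i j := fun i j => by
      have h := congrFun (congrFun (BilinForm.toMatrix_toBilin bs M) i) j
      rwa [BilinForm.toMatrix_apply] at h
    simp only [LinearMap.sub_apply]
    rw [show β.flip (bs i) (bs j) = β (bs j) (bs i) from rfl, hb, hb]
    simp only [M]
    rcases lt_trichotomy i j with h | rfl | h
    · simp [h, h.le.not_gt]
    · simp [T.α_self]
    · simp [h, h.le.not_gt, T.α_symm (bs i) (bs j)]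
  have hid : φ + T.adj φ = LinearMap.id := LinearMap.ext fun a => T.α_ext fun b => by
    rw [LinearMap.add_apply, map_add, LinearMap.add_apply, hφ, T.α_adj, T.α_symm a (φ b), hφ,
      ← sub_eq_add_neg, LinearMap.id_apply]
    exact LinearMap.congr_fun (LinearMap.congr_fun hβ a) b
  -- the coefficients reached form a group
  have hadd : ∀ ψ χ : U →ₗ[F] U, InA (Root Q B ⊤) (T.sh z z ψ) → InA (Root Q B ⊤) (T.sh z z χ) →
      InA (Root Q B ⊤) (T.sh z z (ψ + χ)) := fun ψ χ h h' =>
    (h.add h' fun v => by simp [Ten.sh, T.lin_lin, T.ω_self]).congr fun v => by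
      simp only [Ten.sh, LinearMap.add_apply, T.adj_add, T.lin_apply, map_add]
      abel
  have hzero : InA (Root Q B ⊤) (T.sh z z (0 : U →ₗ[F] U)) :=
    InA.zero.congr fun v => by simp [Ten.sh, T.lin_apply, T.adj_zero]
  have hall : ∀ ψ : U →ₗ[F] U, InA (Root Q B ⊤) (T.sh z z ψ) := by
    intro ψ
    have hd : ∀ i, ∃ d : U, ∀ c, α c d = bs.coord i c := fun i => by
      refine ⟨-((α.toDual T.nα).symm (bs.coord i)), fun c => ?_⟩
      rw [map_neg, T.α_symm, LinearMap.BilinForm.apply_toDual_symm_apply, neg_neg]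
    choose d hd using hd
    have he : ψ = ∑ i, -Ten.rk (α := α) (-ψ (bs i)) (d i) := by
      refine LinearMap.ext fun c => ?_
      rw [LinearMap.sum_apply]
      simp only [LinearMap.neg_apply, Ten.rk_apply, hd, smul_neg, neg_neg]
      conv_lhs => rw [← bs.sum_repr c, map_sum]
      simp
    rw [he]
    exact Finset.sum_induction _ (fun χ => InA (Root Q B ⊤) (T.sh z z χ)) hadd hzero
      fun i _ => hrk _ _
  refine (hall (c • φ)).congr fun v => ?_
  have h1 := congrArg (fun ψ : U →ₗ[F] U => τ (c • ψ (T.ctr z v)) z) hid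
  simp only [LinearMap.add_apply, LinearMap.id_apply, smul_add, map_add, map_smul,
    LinearMap.smul_apply] at h1
  simp only [Ten.sh, LinearMap.add_apply, T.adj_smul, T.lin_apply, LinearMap.smul_apply, map_smul,
    LinearMap.id_apply]
  exact h1

end Cfsg.Lib.Linear.SpTensor
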