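import Cfsg.Agent.Lib.Linear.SpTensor.Descent

/-!
# Without non-scalar coefficients: elements fixing a line, quadratic elements at an isotropic subspace

An element preserving the line of a vector of the second factor is a product of maps of the two
factors, and a quadratic element carried by a totally isotropic subspace of the second factor is the
map of the second factor.
-/

set_option autoImplicit false
set_option linter.unusedSectionVars false

namespace Cfsg.Lib.Linear.SpTensor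

open Module
open scoped Matrix
open Cfsg.Lib.Linear.Orth

variable {ι : Type} [Fintype ι] [DecidableEq ι] {F U W : Type*} [Field F]
  [AddCommGroup U] [Module F U] [FiniteDimensional F U]
  [AddCommGroup W] [Module F W] [FiniteDimensional F W]
  {Q : (ι → F) → F} {B : LinearMap.BilinForm F (ι → F)}
  {α : LinearMap.BilinForm F U} {ω : LinearMap.BilinForm F W} {τ : U →ₗ[F] W →ₗ[F] (ι → F)}
  {G : Subgroup (GL ι F)}

theorem InA.mul {f h : (ι → F) →ₗ[F] (ι → F)} (hf : InA G f) (hh : InA G h) : InA G (f + h + f ∘ₗ h) := by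
  obtain ⟨g, hg, hgf⟩ := hf
  obtain ⟨g', hg', hgh⟩ := hh
  refine ⟨g * g', G.mul_mem hg hg', fun v => ?_⟩
  rw [mul_act, hgh, hgf, map_add, LinearMap.add_apply, LinearMap.add_apply, LinearMap.comp_apply]
  abel

variable (T : Ten Q B α ω τ)
include T

/-- The second component of a vector, read off with a functional of the first factor. -/
noncomputable def rd (θ : U →ₗ[F] F) : (ι → F) →ₗ[F] W :=
  (ω.toDual T.nω).symm.toLinearMap ∘ₗ (LinearMap.llcomp F W U F θ ∘ₗ T.ctr.flip)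

theorem ω_rd (θ : U →ₗ[F] F) (v : ι → F) (w : W) : ω (rd T θ v) w = θ (T.ctr w v) := by
  simp [rd, LinearMap.BilinForm.apply_toDual_symm_apply]

theorem ω_ext {x y : W} (h : ∀ w, ω x w = ω y w) : x = y := by
  refine sub_eq_zero.1 (T.nω.1 _ fun w => ?_)
  rw [map_sub, LinearMap.sub_apply, h, sub_self]

theorem rd_tau (θ : U →ₗ[F] F) {c : U} (hc : θ c = 1) (y : W) : rd T θ (τ c y) = y :=
  ω_ext T fun w => by rw [ω_rd, T.ctr_tau, map_smul, hc, smul_eq_mul, mul_one]

/-- Components proportional to a map give a pure part. -/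
theorem rep {b : W} (hb : b ≠ 0) {ψ : U →ₗ[F] U} {a₀ : U} {θ : U →ₗ[F] F} (hθ : θ (ψ a₀) = 1)
    (V : U →ₗ[F] (ι → F)) (h : ∀ w, ω b w = 0 → ∃ s : F, ∀ a, T.ctr w (V a) = s • ψ a) :
    ∃ (r : W) (χ : U →ₗ[F] U), ∀ a, V a = τ (ψ a) r + τ (χ a) b := by
  obtain ⟨z, hz⟩ := T.exists_nonorth hb
  set r := rd T θ (V a₀)
  refine ⟨r, T.ctr z ∘ₗ (V - τ.flip r ∘ₗ ψ), fun a => ?_⟩
  have hD : ∀ w, ω b w = 0 → T.ctr w (V a - τ (ψ a) r) = 0 := fun w hw => by
    obtain ⟨s, hs⟩ := h w hw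
    rw [map_sub, T.ctr_tau, hs, ω_rd, hs, map_smul, hθ, smul_eq_mul, mul_one, sub_self]
  obtain ⟨c, hc⟩ := mem_tl_of T hb hD
  rw [LinearMap.flip_apply] at hc
  rw [LinearMap.comp_apply, LinearMap.sub_apply, LinearMap.comp_apply, LinearMap.flip_apply, ← hc, T.ctr_tau, hz,
    one_smul, hc, add_sub_cancel]

theorem ctr_of_image {h : GL ι F} (hact : ∀ u v : ι → F, B (h.val *ᵥ u) (h.val *ᵥ v) = B u v) {u r b : W}
    {ψ χ : U →ₗ[F] U} (hu : ∀ a, h.val *ᵥ τ a u = τ (ψ a) r + τ (χ a) b) (v : ι → F) :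
    T.ctr u v = T.adj ψ (T.ctr r (h.val *ᵥ v)) + T.adj χ (T.ctr b (h.val *ᵥ v)) := T.α_ext fun c => by
  rw [T.α_ctr, ← hact, hu, map_add, map_add, LinearMap.add_apply, T.α_adj, T.α_adj, T.α_ctr, T.α_ctr]

theorem adj_neg (φ : U →ₗ[F] U) : T.adj (-φ) = -T.adj φ := by
  rw [← neg_one_smul F, T.adj_smul, neg_one_smul]

variable (hG : OverR T G)
include hG

/-- The part fixed by an element preserving a line. -/
theorem line_perp (hk : 6 ≤ finrank F W) (hR : ¬ Rich G T) {h : GL ι F} (hh : h ∈ G) {b : W} (hb : b ≠ 0)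
    {ψ : U →ₗ[F] U} (hψ : ∀ a, h.val *ᵥ τ a b = τ (ψ a) b) {l : F} (hl : l ≠ 0)
    (hl1 : ψ ∘ₗ T.adj ψ = l • LinearMap.id) (hl2 : T.adj ψ ∘ₗ ψ = l • LinearMap.id) {a₀ : U} (ha₀ : a₀ ≠ 0)
    {u' : W} (hu' : ω b u' = 0) :
    ∃ r : W, ω r b = 0 ∧ ∀ a, h.val *ᵥ τ a u' = τ (ψ a) r := by
  classical
  have hbij := bijective_fix T hb hψ
  have hψa : ψ a₀ ≠ 0 := fun e => ha₀ (hbij.1 (e.trans (map_zero ψ).symm))
  obtain ⟨θ', hθ', -⟩ := Submodule.exists_dual_map_eq_bot_of_notMem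
    (x := ψ a₀) (p := (⊥ : Submodule F U)) (by simpa using hψa) inferInstance
  set θ : U →ₗ[F] F := (θ' (ψ a₀))⁻¹ • θ'
  have hθ : θ (ψ a₀) = 1 := by simp [θ, inv_mul_cancel₀ hθ']
  by_cases hm : u' ∈ Submodule.span F {b}
  · obtain ⟨c, rfl⟩ := Submodule.mem_span_singleton.1 hm
    exact ⟨c • b, by simp [T.ω_self], fun a => by rw [map_smul, Matrix.mulVec_smul, hψ, map_smul]⟩
  -- the vectors orthogonal to the line
  have data : ∀ u, ω b u = 0 → ∃ (r : W) (χ : U →ₗ[F] U),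
      ω r b = 0 ∧ ∀ a, h.val *ᵥ τ a u = τ (ψ a) r + τ (χ a) b := by
    intro u hu
    have hub : ω u b = 0 := by rw [T.ω_symm, hu, neg_zero]
    have h0 : ∀ a, T.ctr b (h.val *ᵥ τ a u) = 0 := fun a => by
      have h1 := ctr_fix T hG hh hψ (τ a u)
      rw [T.ctr_tau, hub, zero_smul] at h1
      have h2 := congrArg ψ h1.symm
      rw [map_zero, ← LinearMap.comp_apply, hl1, LinearMap.smul_apply, LinearMap.id_apply] at h2
      exact (smul_eq_zero.1 h2).resolve_left hl
    let V : U →ₗ[F] (ι → F) := (ac h).toLinearMap ∘ₗ τ.flip u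
    obtain ⟨r, χ, hr⟩ := rep T hb hθ V fun w hw => by
      by_cases hwb : w ∈ Submodule.span F {b}
      · obtain ⟨c, rfl⟩ := Submodule.mem_span_singleton.1 hwb
        exact ⟨0, fun a => by
          show T.ctr (c • b) (h.val *ᵥ τ a u) = _
          rw [map_smul, LinearMap.smul_apply, h0, smul_zero, zero_smul]⟩
      obtain ⟨s, hs⟩ := fix_scalar T hG hk hR hh hb hψ hu hw hwb
      refine ⟨s / l, fun a => ?_⟩
      have h1 := hs (ψ a)
      rw [show T.adj ψ (ψ a) = l • a from LinearMap.congr_fun hl2 a, map_smul τ, LinearMap.smul_apply,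
        Matrix.mulVec_smul, map_smul] at h1
      show T.ctr w (h.val *ᵥ τ a u) = _
      rw [div_eq_inv_mul, mul_smul, ← h1, smul_smul, inv_mul_cancel₀ hl, one_smul]
    refine ⟨r, χ, ?_, fun a => hr a⟩
    have h1 := congrArg θ (h0 a₀)
    rw [show h.val *ᵥ τ a₀ u = V a₀ from rfl, hr, map_add, T.ctr_tau, T.ctr_tau, T.ω_self, zero_smul, add_zero,
      map_smul, hθ, map_zero, smul_eq_mul, mul_one] at h1
    exact h1
  obtain ⟨u, hu, hu1, -⟩ := Ten.exists_avoid (ω := ω) ![b, u'] (Submodule.span F {b, u'}) ⊥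
    (by have := Ten.finrank_pair_le (F := F) b u'; omega) (by simp; omega)
  have hub : ω u b = 0 := hu 0
  have huu : ω u u' = 0 := hu 1
  obtain ⟨r, χ, hrb, hr⟩ := data u (by rw [T.ω_symm, hub, neg_zero])
  obtain ⟨r', χ', hrb', hr'⟩ := data u' hu'
  have hbr : ω b r = 0 := by rw [T.ω_symm, hrb, neg_zero]
  have hbr' : ω b r' = 0 := by rw [T.ω_symm, hrb', neg_zero]
  have hrr : ω r r' = 0 := by
    obtain ⟨c, hc⟩ := T.swap.exists_nonorth hψa
    obtain ⟨c', rfl⟩ := hbij.2 c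
    have h1 := hG.act _ hh (τ a₀ u) (τ c' u')
    simp only [hr, hr', map_add, LinearMap.add_apply, T.pair, huu, hrb, hbr', T.ω_self, mul_zero, add_zero, hc,
      one_mul] at h1
    exact h1
  have hr'r : ω r' r = 0 := by rw [T.ω_symm, hrr, neg_zero]
  have hind : r ∉ Submodule.span F {b, r'} := by
    intro hm'
    obtain ⟨p, q, hpq⟩ := Submodule.mem_span_pair.1 hm'
    have hnot : u - q • u' ∉ Submodule.span F {b} := fun h1 => hu1 <| by
      obtain ⟨d, hd⟩ := Submodule.mem_span_singleton.1 h1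
      exact Submodule.mem_span_pair.2 ⟨d, q, by rw [hd, sub_add_cancel]⟩
    obtain ⟨y, hy, hy'⟩ := T.exists_dual _ hnot
    obtain ⟨a', ha'⟩ := hbij.2 (p • ψ a₀ + χ a₀ - q • χ' a₀)
    have h1 : τ a₀ (u - q • u') = τ a' b := act_injective h (by
      show h.val *ᵥ _ = h.val *ᵥ _
      rw [hψ, ha', map_sub, map_smul, Matrix.mulVec_sub, Matrix.mulVec_smul, hr, hr', ← hpq]
      simp only [map_add, map_sub, map_smul, LinearMap.add_apply, LinearMap.sub_apply, LinearMap.smul_apply]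
      module)
    have h3 := congrArg (T.ctr y) h1
    rw [T.ctr_tau, T.ctr_tau, hy', hy b (Submodule.mem_span_singleton_self b), one_smul, zero_smul] at h3
    exact ha₀ h3
  -- the conjugate of the short element
  have hF0 : InA G (T.sh r r' (l • LinearMap.id) + T.sh r b (ψ ∘ₗ T.adj χ') + T.sh r' b (ψ ∘ₗ T.adj χ) +
      T.lin b b (χ ∘ₗ T.adj χ' + χ' ∘ₗ T.adj χ)) := by
    refine (sh_one T hG huu).conj hh fun v => ?_
    have h1 := ctr_of_image T (hG.act _ hh) hr v
    have h1' := ctr_of_image T (hG.act _ hh) hr' v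
    simp only [Ten.sh, T.adj_one, LinearMap.add_apply, T.lin_apply, LinearMap.id_apply, Matrix.mulVec_add, hr,
      hr', T.adj_comp, T.adj_adj, T.adj_smul, LinearMap.smul_apply, LinearMap.comp_apply, h1, h1', map_add,
      map_smul]
    have e : ∀ x, ψ (T.adj ψ x) = l • x := fun x => by
      rw [← LinearMap.comp_apply, hl1, LinearMap.smul_apply, LinearMap.id_apply]
    simp only [e, map_smul, LinearMap.smul_apply]
    abel
  have hone : InA G (T.sh r r' ((-l) • LinearMap.id)) := by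
    refine (sh_one T hG (x := (-l) • r) (y := r') (by simp [hrr])).congr fun v => ?_
    simp only [Ten.sh, LinearMap.add_apply, T.lin_apply, T.adj_smul, T.adj_one, map_smul, LinearMap.smul_apply,
      LinearMap.id_apply]
  have hF : InA G (T.sh b r (χ' ∘ₗ T.adj ψ) + T.sh b r' (χ ∘ₗ T.adj ψ) +
      T.lin b b (χ ∘ₗ T.adj χ' + χ' ∘ₗ T.adj χ)) := by
    refine (hF0.add hone fun v => ?_).congr fun v => ?_
    · simp [Ten.sh, T.lin_lin, T.ω_self, hrr, hr'r, hrb, hrb']
    · simp only [Ten.sh, LinearMap.add_apply, T.lin_apply, T.adj_smul, T.adj_one, T.adj_comp, T.adj_adj,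
        LinearMap.smul_apply, LinearMap.id_apply, map_smul, map_add]
      module
  obtain ⟨y, hy, hry⟩ := T.exists_dual _ hind
  have hby := hy b (Submodule.mem_span_pair.2 ⟨1, 0, by simp⟩)
  have hr'y := hy r' (Submodule.mem_span_pair.2 ⟨0, 1, by simp⟩)
  obtain ⟨z, hz, hz1, -⟩ := Ten.exists_avoid (ω := ω) ![b, r, r', y] (Submodule.span F {b}) ⊥
    (by rw [finrank_span_singleton hb]; omega) (by simp; omega)
  have hzb : ω z b = 0 := hz 0
  have hzr : ω z r = 0 := hz 1
  have hzr' : ω z r' = 0 := hz 2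
  have hzy : ω z y = 0 := hz 3
  set y' := -y
  have h1 : ω y' r = 1 := by simp [y', T.ω_symm y r, hry]
  have e2 : ω y' b = 0 := by simp [y', T.ω_symm y b, hby]
  have e2' : ω y' r' = 0 := by simp [y', T.ω_symm y r', hr'y]
  have e5 : ω z y' = 0 := by simp [y', hzy]
  have d1 : ω r y' = -1 := by rw [T.ω_symm, h1]
  have d2 : ω b y' = 0 := by rw [T.ω_symm, e2, neg_zero]
  have d2' : ω r' y' = 0 := by rw [T.ω_symm, e2', neg_zero]
  have d3 : ω b z = 0 := by rw [T.ω_symm, hzb, neg_zero]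
  have d4 : ω r z = 0 := by rw [T.ω_symm, hzr, neg_zero]
  have d4' : ω r' z = 0 := by rw [T.ω_symm, hzr', neg_zero]
  have d5 : ω y' z = 0 := by rw [T.ω_symm, e5, neg_zero]
  have hsh : InA G (T.sh b z (χ' ∘ₗ T.adj ψ)) := by
    refine InA.comm (h := T.sh y' z LinearMap.id) hF (sh_one T hG d5) (fun v => ?_) (fun v => ?_) fun v => ?_
    · simp [Ten.sh, T.lin_lin, T.ω_self, hbr, hbr', hrb, hrb', hrr, hr'r]
    · simp [Ten.sh, T.lin_lin, T.ω_self, d5, e5]
    · simp [Ten.sh, T.lin_lin, T.adj_comp, T.adj_one, T.adj_adj, h1, e2,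
        e2', d1, d2, d2', d3, d4, d4', hzb, hzr, hzr', LinearMap.comp_id, LinearMap.id_comp]
  obtain ⟨c, hc⟩ := scalar_of_good T hR (good_of_sh T hG hk hb hz1 d3 hsh)
  refine ⟨r' + (l⁻¹ * c) • b, by simp [hrb', T.ω_self], fun a => ?_⟩
  have h2 := LinearMap.congr_fun hc (ψ a)
  rw [LinearMap.comp_apply, show T.adj ψ (ψ a) = l • a by
    rw [← LinearMap.comp_apply, hl2, LinearMap.smul_apply, LinearMap.id_apply], map_smul, LinearMap.smul_apply,
    LinearMap.id_apply] at h2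
  have h3 : χ' a = (l⁻¹ * c) • ψ a := by rw [mul_smul, ← h2, smul_smul, inv_mul_cancel₀ hl, one_smul]
  rw [hr', h3, map_add, map_smul, map_smul, LinearMap.smul_apply]

/-- An element preserving a line is a product of maps of the two factors. -/
theorem line_split (hk : 6 ≤ finrank F W) (hR : ¬ Rich G T) {a₀ : U} (ha₀ : a₀ ≠ 0) {h : GL ι F} (hh : h ∈ G)
    {b : W} (hb : b ≠ 0) (hfix : ∀ a, h.val *ᵥ τ a b ∈ tl τ b) :
    ∃ (ψ : U →ₗ[F] U) (R : W →ₗ[F] W), Function.Injective R ∧ ∀ a x, h.val *ᵥ τ a x = τ (ψ a) (R x) := by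
  classical
  obtain ⟨z0, hz0⟩ := T.exists_nonorth hb
  let ψ : U →ₗ[F] U := T.ctr z0 ∘ₗ (ac h).toLinearMap ∘ₗ τ.flip b
  have hψ : ∀ a, h.val *ᵥ τ a b = τ (ψ a) b := fun a => by
    obtain ⟨y, hy⟩ := hfix a
    rw [LinearMap.flip_apply] at hy
    show _ = τ (T.ctr z0 (h.val *ᵥ τ a b)) b
    rw [← hy, T.ctr_tau, hz0, one_smul]
  have hbij := bijective_fix T hb hψ
  have hψa : ψ a₀ ≠ 0 := fun e => ha₀ (hbij.1 (e.trans (map_zero ψ).symm))
  obtain ⟨θ', hθ', -⟩ := Submodule.exists_dual_map_eq_bot_of_notMem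
    (x := ψ a₀) (p := (⊥ : Submodule F U)) (by simpa using hψa) inferInstance
  set θ : U →ₗ[F] F := (θ' (ψ a₀))⁻¹ • θ'
  have hθ : θ (ψ a₀) = 1 := by simp [θ, inv_mul_cancel₀ hθ']
  have hlong : InA G (T.lin b b (ψ ∘ₗ T.adj ψ)) := by
    refine InA.conj (f := T.lin b b LinearMap.id) (by simpa using hG.right b 1) hh fun v => ?_
    rw [T.lin_apply, T.lin_apply, LinearMap.id_apply, hψ, ctr_fix T hG hh hψ v]
    rfl
  obtain ⟨l, hl1⟩ := scalar_of_good T hR
    (good_of_long T hG hk hb (by rw [T.adj_comp, T.adj_adj]) hlong)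
  have hl2 : T.adj ψ ∘ₗ ψ = l • LinearMap.id := LinearMap.ext fun a => hbij.1 (by
    show ψ (T.adj ψ (ψ a)) = ψ (l • a)
    rw [show ψ (T.adj ψ (ψ a)) = l • ψ a from LinearMap.congr_fun hl1 (ψ a), map_smul])
  have hl : l ≠ 0 := fun e => by
    obtain ⟨c, hc⟩ := T.swap.exists_nonorth hψa
    obtain ⟨c', rfl⟩ := hbij.2 c
    have h1 := T.α_adj ψ (ψ a₀) c'
    rw [show T.adj ψ (ψ a₀) = l • a₀ from LinearMap.congr_fun hl2 a₀, e, zero_smul, map_zero, LinearMap.zero_apply,
      hc] at h1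
    exact zero_ne_one h1
  set ψ' := l⁻¹ • T.adj ψ with hψ'
  have h1' : ∀ x, ψ (ψ' x) = x := fun x => by
    rw [hψ', LinearMap.smul_apply, map_smul, ← LinearMap.comp_apply, hl1, LinearMap.smul_apply, LinearMap.id_apply,
      smul_smul, inv_mul_cancel₀ hl, one_smul]
  have hinv : ∀ a, (h⁻¹ : GL ι F).val *ᵥ τ a b = τ (ψ' a) b := fun a => by
    have := congrArg (fun v => (h⁻¹ : GL ι F).val *ᵥ v) (hψ (ψ' a))
    simp only [inv_act, h1'] at this
    exact this.symm
  have hadj : T.adj ψ' = l⁻¹ • ψ := by rw [hψ', T.adj_smul, T.adj_adj]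
  have perp := fun {u : W} (hu : ω b u = 0) => line_perp T hG hk hR hh hb hψ hl hl1 hl2 ha₀ hu
  have perp' := fun {u : W} (hu : ω b u = 0) =>
    line_perp T hG hk hR (G.inv_mem hh) hb hinv (inv_ne_zero hl)
      (by rw [hadj, hψ', LinearMap.smul_comp, LinearMap.comp_smul, hl2, smul_smul, smul_smul]
          congr 1
          field_simp)
      (by rw [hadj, hψ', LinearMap.smul_comp, LinearMap.comp_smul, hl1, smul_smul, smul_smul]
          congr 1
          field_simp)
      ha₀ hu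
  -- the vector off the hyperplane
  obtain ⟨r0, η, hr0⟩ := rep T hb hθ ((ac h).toLinearMap ∘ₗ τ.flip z0) fun w hw => by
    obtain ⟨rw', -, hrw⟩ := perp' hw
    refine ⟨l⁻¹ * ω z0 rw', fun a => T.α_ext fun c => ?_⟩
    show α (T.ctr w (h.val *ᵥ τ a z0)) c = _
    have h1 := hG.act _ hh (τ a z0) ((h⁻¹ : GL ι F).val *ᵥ τ c w)
    rw [act_inv, hrw, T.pair, ← T.α_adj, hadj, LinearMap.smul_apply] at h1
    rw [T.α_ctr, h1]
    simp only [map_smul, LinearMap.smul_apply, smul_eq_mul]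
    ring
  have hr0' : ∀ a, h.val *ᵥ τ a z0 = τ (ψ a) r0 + τ (η a) b := fun a => hr0 a
  obtain ⟨u, hu, hu1, -⟩ := Ten.exists_avoid (ω := ω) ![b, z0] (Submodule.span F {b}) ⊥
    (by rw [finrank_span_singleton hb]; omega) (by simp; omega)
  have hub : ω u b = 0 := hu 0
  have huz : ω u z0 = 0 := hu 1
  obtain ⟨r, hrb, hr⟩ := perp (show ω b u = 0 by rw [T.ω_symm, hub, neg_zero])
  have hbr : ω b r = 0 := by rw [T.ω_symm, hrb, neg_zero]
  have hrr0 : ω r r0 = 0 := by
    obtain ⟨c, hc⟩ := T.swap.exists_nonorth hψa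
    obtain ⟨c', rfl⟩ := hbij.2 c
    have h1 := hG.act _ hh (τ a₀ u) (τ c' z0)
    simp only [hr, hr0', map_add, T.pair, huz, hrb, mul_zero, add_zero, hc, one_mul] at h1
    exact h1
  have hr0r : ω r0 r = 0 := by rw [T.ω_symm, hrr0, neg_zero]
  have hrne : r ≠ 0 := fun e => by
    have h1 : τ a₀ u = τ a₀ (0 : W) := act_injective h (by
      show h.val *ᵥ _ = h.val *ᵥ _
      rw [hr, e, map_zero, map_zero, Matrix.mulVec_zero])
    exact hu1 (by
      rw [tau_inj T.swap ha₀ (show τ.flip u a₀ = τ.flip (0 : W) a₀ from h1)]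
      exact Submodule.zero_mem _)
  have hrb' : b ∉ Submodule.span F {r} := fun hm => by
    obtain ⟨d, hd⟩ := Submodule.mem_span_singleton.1 hm
    have hd0 : d ≠ 0 := fun e => hb (by rw [← hd, e, zero_smul])
    obtain ⟨a', ha'⟩ := hbij.2 (d⁻¹ • ψ a₀)
    have h1 : τ a₀ u = τ a' b := act_injective h (by
      show h.val *ᵥ _ = h.val *ᵥ _
      rw [hr, hψ, ha', ← hd, map_smul, map_smul, LinearMap.smul_apply, smul_smul, mul_inv_cancel₀ hd0, one_smul])
    obtain ⟨y, hy, hy'⟩ := T.exists_dual _ hu1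
    have h3 := congrArg (T.ctr y) h1
    rw [T.ctr_tau, T.ctr_tau, hy', hy b (Submodule.mem_span_singleton_self b), one_smul, zero_smul] at h3
    exact ha₀ h3
  set φ := ψ ∘ₗ T.adj η with hφ
  have hF0 : InA G (T.sh r r0 (l • LinearMap.id) + T.sh r b φ) := by
    refine (sh_one T hG huz).conj hh fun v => ?_
    have h1 := ctr_of_image T (hG.act _ hh) hr0' v
    have h2 := ctr_of_image T (hG.act _ hh) (χ := (0 : U →ₗ[F] U)) (r := r) (b := b) (ψ := ψ) (u := u)
      (fun a => by rw [hr, LinearMap.zero_apply, map_zero, LinearMap.zero_apply, add_zero]) v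
    rw [T.adj_zero, LinearMap.zero_apply, add_zero] at h2
    simp only [hφ, Ten.sh, T.adj_one, LinearMap.add_apply, T.lin_apply, LinearMap.id_apply, Matrix.mulVec_add, hr,
      hr0', T.adj_comp, T.adj_adj, T.adj_smul, LinearMap.smul_apply, LinearMap.comp_apply, h1, h2, map_add]
    have e : ∀ x, ψ (T.adj ψ x) = l • x := fun x => by
      rw [← LinearMap.comp_apply, hl1, LinearMap.smul_apply, LinearMap.id_apply]
    simp only [e]
    abel
  have hone : InA G (T.sh r r0 ((-l) • LinearMap.id)) := by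
    refine (sh_one T hG (x := (-l) • r) (y := r0) (by simp [hrr0])).congr fun v => ?_
    simp only [Ten.sh, LinearMap.add_apply, T.lin_apply, T.adj_smul, T.adj_one, map_smul, LinearMap.smul_apply,
      LinearMap.id_apply]
  have hF : InA G (T.sh r b φ + T.lin r r ((-l * ω r0 b) • φ)) := by
    refine (hF0.mul hone).congr fun v => ?_
    simp [Ten.sh, T.ω_self, hrr0, hr0r, hrb, T.adj_smul, T.adj_one, T.lin_apply, T.ctr_tau, adj_neg T]
    module
  obtain ⟨y, hy, hby⟩ := T.exists_dual _ hrb'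
  have hry := hy r (Submodule.mem_span_singleton_self r)
  obtain ⟨z, hz, hz1, -⟩ := Ten.exists_avoid (ω := ω) ![r, b, y] (Submodule.span F {r}) ⊥
    (by rw [finrank_span_singleton hrne]; omega) (by simp; omega)
  have hzr : ω z r = 0 := hz 0
  have hzb : ω z b = 0 := hz 1
  have hzy : ω z y = 0 := hz 2
  have hstep := step T hG (y' := -y) (ψ := LinearMap.id) hrb (by simp [T.ω_symm y b, hby])
    (by simp [T.ω_symm y r, hry]) hzr hzb (by simp [hzy]) hF (sh_one T hG (by simp [T.ω_symm y z, hzy]))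
  rw [LinearMap.comp_id] at hstep
  obtain ⟨c, hc⟩ := scalar_of_good T hR
    (good_of_sh T hG hk hrne hz1 (by rw [T.ω_symm, hzr, neg_zero]) hstep)
  have hη : ∀ a, η a = (l⁻¹ * c) • ψ a := fun a => by
    have h1 : η ∘ₗ T.adj ψ = c • LinearMap.id := by
      have := congrArg T.adj hc
      rwa [hφ, T.adj_comp, T.adj_adj, T.adj_smul, T.adj_one] at this
    have h2 := LinearMap.congr_fun h1 (ψ a)
    rw [LinearMap.comp_apply, show T.adj ψ (ψ a) = l • a by
      rw [← LinearMap.comp_apply, hl2, LinearMap.smul_apply, LinearMap.id_apply], map_smul, LinearMap.smul_apply,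
      LinearMap.id_apply] at h2
    rw [mul_smul, ← h2, smul_smul, inv_mul_cancel₀ hl, one_smul]
  set r1 := r0 + (l⁻¹ * c) • b
  have hz0' : ∀ a, h.val *ᵥ τ a z0 = τ (ψ a) r1 := fun a => by
    rw [hr0', hη, map_add, map_smul, map_smul, LinearMap.smul_apply]
  -- the map of the second factor
  let R : W →ₗ[F] W := rd T θ ∘ₗ (ac h).toLinearMap ∘ₗ τ a₀
  have main : ∀ x, ∃ y, ∀ a, h.val *ᵥ τ a x = τ (ψ a) y := fun x => by
    obtain ⟨p, -, hp⟩ := perp (u := x - ω b x • z0) (by rw [map_sub, map_smul, hz0, smul_eq_mul, mul_one, sub_self])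
    refine ⟨p + ω b x • r1, fun a => ?_⟩
    conv_lhs => rw [← sub_add_cancel x (ω b x • z0)]
    rw [map_add, map_smul, Matrix.mulVec_add, Matrix.mulVec_smul, hp, hz0']
    simp only [r1, map_add, map_smul]
  have hR' : ∀ a x, h.val *ᵥ τ a x = τ (ψ a) (R x) := fun a x => by
    obtain ⟨y, hy⟩ := main x
    have : R x = y := by
      show rd T θ (h.val *ᵥ τ a₀ x) = y
      rw [hy, rd_tau T θ hθ]
    rw [this, hy]
  refine ⟨ψ, R, LinearMap.ker_eq_bot.1 (LinearMap.ker_eq_bot'.2 fun x hx => ?_), hR'⟩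
  have h1 : τ a₀ x = τ a₀ (0 : W) := act_injective h (by
    show h.val *ᵥ _ = h.val *ᵥ _
    rw [hR', hR', hx, map_zero, map_zero, map_zero])
  exact tau_inj T.swap ha₀ (show τ.flip x a₀ = τ.flip (0 : W) a₀ from h1)

/-- A quadratic element carried by a totally isotropic subspace is a map of the second factor. -/
theorem block_scalar (hk : 6 ≤ finrank F W) (hR : ¬ Rich G T) {a₀ : U} (ha₀ : a₀ ≠ 0)
    {f : (ι → F) →ₗ[F] (ι → F)} (hf : InA G f) (ff : ∀ v, f (f v) = 0) (I : Submodule F W)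
    (hI : ∀ e ∈ I, ∀ e' ∈ I, ω e e' = 0)
    (hz : ∀ a x, (∀ e ∈ I, ω e x = 0) → f (τ a x) = 0)
    (himg : ∀ v x, (∀ e ∈ I, ω e x = 0) → T.ctr x (f v) = 0) :
    ∃ M : W →ₗ[F] W, ∀ a x, f (τ a x) = τ a (M x) := by
  classical
  set P := LinearMap.BilinForm.orthogonal ω I with hP
  have hmem : ∀ x, x ∈ P ↔ ∀ e ∈ I, ω e x = 0 := fun x => Iff.rfl
  have hrefl : ω.IsRefl := T.aω.isRefl
  have hdimP : finrank F P = finrank F W - finrank F I := LinearMap.BilinForm.finrank_orthogonal T.nω I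
  have hIP : I ≤ P := fun x hx => (hmem x).2 fun e he => hI e he x hx
  have hIle := Submodule.finrank_mono hIP
  have hskew := fun u v => hf.skew' hG.act ff u v
  -- two constraints inside the orthogonal
  have pick : ∀ (d : Fin 2 → W) (Z : Submodule F W), 2 + finrank F Z < finrank F P →
      ∃ x ∈ P, (∀ j, ω (d j) x = 0) ∧ x ∉ Z := by
    intro d Z hd
    set L : P →ₗ[F] (Fin 2 → F) := (LinearMap.pi fun j => ω (d j)) ∘ₗ P.subtype
    have h1 := L.finrank_range_add_finrank_ker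
    have h3 := Submodule.finrank_le (LinearMap.range L)
    rw [finrank_fin_fun] at h3
    have h4 : finrank F ((LinearMap.ker L).map P.subtype) = finrank F (LinearMap.ker L) :=
      Submodule.finrank_map_subtype_eq P _
    obtain ⟨x, hx, hxZ⟩ : ∃ x ∈ (LinearMap.ker L).map P.subtype, x ∉ Z :=
      SetLike.not_le_iff_exists.1 fun hle => by
        have := Submodule.finrank_mono hle
        omega
    obtain ⟨⟨x, hxP⟩, hxL, rfl⟩ := hx
    exact ⟨x, hxP, fun j => congrFun (LinearMap.mem_ker.1 hxL) j, hxZ⟩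
  have hK : ∀ d d2 : W, ω d2 d = 0 → ∃ s : F, ∀ a, T.ctr d (f (τ a d2)) = s • a := by
    intro d d2 hdd
    obtain ⟨z, hzP, hzd, hz0⟩ := pick ![d, d2] ⊥ (by rw [finrank_bot]; omega)
    have hzd' : ω d z = 0 := hzd 0
    have hzd2 : ω d2 z = 0 := hzd 1
    have hzne : z ≠ 0 := fun e => hz0 (e ▸ Submodule.zero_mem _)
    obtain ⟨z', hz'P, hz'z, hz'd2, hz'n⟩ :
        ∃ z' ∈ P, ω z z' = 0 ∧ ω d2 z' = 0 ∧ z' ∉ Submodule.span F {z} := by
      by_cases hzI : z ∈ I
      · obtain ⟨x, hx, hxd, hxn⟩ : ∃ x ∈ P, ω d2 x = 0 ∧ x ∉ Submodule.span F {z} := by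
          set L : P →ₗ[F] F := ω d2 ∘ₗ P.subtype
          have h1 := L.finrank_range_add_finrank_ker
          have h3 := Submodule.finrank_le (LinearMap.range L)
          rw [finrank_self] at h3
          have h4 : finrank F ((LinearMap.ker L).map P.subtype) = finrank F (LinearMap.ker L) :=
            Submodule.finrank_map_subtype_eq P _
          obtain ⟨x, hx, hxZ⟩ : ∃ x ∈ (LinearMap.ker L).map P.subtype, x ∉ Submodule.span F {z} :=
            SetLike.not_le_iff_exists.1 fun hle => by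
              have := Submodule.finrank_mono hle
              rw [finrank_span_singleton hzne] at this
              omega
          obtain ⟨⟨x, hxP⟩, hxL, rfl⟩ := hx
          exact ⟨x, hxP, LinearMap.mem_ker.1 hxL, hxZ⟩
        exact ⟨x, hx, (hmem x).1 hx z hzI, hxd, hxn⟩
      · have hlt : I < I ⊔ Submodule.span F {z} := by
          refine lt_of_le_of_ne le_sup_left fun e => hzI ?_
          rw [e]
          exact Submodule.mem_sup_right (Submodule.mem_span_singleton_self z)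
        have hJ : I ⊔ Submodule.span F {z} ≤ LinearMap.BilinForm.orthogonal ω (I ⊔ Submodule.span F {z}) := by
          intro x hx e he
          obtain ⟨e₁, he₁, c, hc, rfl⟩ := Submodule.mem_sup.1 he
          obtain ⟨x₁, hx₁, c', hc', rfl⟩ := Submodule.mem_sup.1 hx
          obtain ⟨p, rfl⟩ := Submodule.mem_span_singleton.1 hc
          obtain ⟨q, rfl⟩ := Submodule.mem_span_singleton.1 hc'
          have h1 := hI e₁ he₁ x₁ hx₁
          have h2 := (hmem z).1 hzP e₁ he₁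
          have h3 : ω z x₁ = 0 := hrefl _ _ ((hmem z).1 hzP x₁ hx₁)
          show ω (e₁ + p • z) (x₁ + q • z) = 0
          simp [h1, h2, h3, T.ω_self]
        have h1 := Submodule.finrank_mono hJ
        rw [LinearMap.BilinForm.finrank_orthogonal T.nω] at h1
        have h2 := Submodule.finrank_lt_finrank_of_lt hlt
        obtain ⟨x, hx, hxd, hxn⟩ := pick ![z, d2] (Submodule.span F {z})
          (by rw [finrank_span_singleton hzne]; omega)
        exact ⟨x, hx, hxd 0, hxd 1, hxn⟩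
    have hzd2' : ω z d2 = 0 := hrefl _ _ hzd2
    have hzd'' : ω z d = 0 := hrefl _ _ hzd'
    have hz'zr : ω z' z = 0 := hrefl _ _ hz'z
    have hfz : ∀ a, f (τ a z) = 0 := fun a => hz a z ((hmem z).1 hzP)
    have hfz' : ∀ a, f (τ a z') = 0 := fun a => hz a z' ((hmem z').1 hz'P)
    have hiz : ∀ v, T.ctr z (f v) = 0 := fun v => himg v z ((hmem z).1 hzP)
    have hiz' : ∀ v, T.ctr z' (f v) = 0 := fun v => himg v z' ((hmem z').1 hz'P)
    set h := T.sh d z LinearMap.id
    have hhv : ∀ v, h v = τ (T.ctr z v) d + τ (T.ctr d v) z := fun v => by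
      simp [h, Ten.sh, T.lin_apply, T.adj_one]
    set c1 : (ι → F) →ₗ[F] (ι → F) := f ∘ₗ T.lin d z LinearMap.id - T.lin z d LinearMap.id ∘ₗ f +
      T.lin z d LinearMap.id ∘ₗ f ∘ₗ T.lin d z LinearMap.id
    have hc1v : ∀ v, c1 v = f (τ (T.ctr z v) d) - τ (T.ctr d (f v)) z +
        τ (T.ctr d (f (τ (T.ctr z v) d))) z := fun v => by
      simp [c1, T.lin_apply]
    have hc1 : InA G c1 := by
      refine InA.comm hf (sh_one T hG hzd') ff (fun v => by simp [Ten.sh, T.lin_lin, T.ω_self, hzd', hzd'']) fun v => ?_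
      simp only [← show h = T.sh d z LinearMap.id from rfl, hhv, hc1v, map_add, hfz, hiz, map_zero,
        LinearMap.zero_apply, zero_add, add_zero, sub_zero]
    have hfc : ∀ v, f (c1 v) = 0 := fun v => by
      rw [hc1v, map_add, map_sub, ff, hfz, hfz, sub_zero, add_zero]
    have hzc : ∀ v, T.ctr z (c1 v) = 0 := fun v => by
      rw [hc1v, map_add, map_sub, hiz, T.ctr_tau, T.ctr_tau, T.ω_self, zero_smul, zero_smul, sub_zero, add_zero]
    have hcc : ∀ v, c1 (c1 v) = 0 := fun v => by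
      rw [hc1v (c1 v), hzc, hfc]
      simp
    set K : U →ₗ[F] U := T.ctr d ∘ₗ f ∘ₗ τ.flip d2 with hKd
    have hK2 : ∀ a, T.ctr d2 (f (τ a d)) = T.adj K a := fun a => T.α_ext fun c => by
      rw [T.α_adj, T.α_ctr, hskew, T.space.symm, ← T.α_ctr, T.α_symm, neg_neg]
      simp [hKd]
    have ha : ∀ a, c1 (τ a d2) = -τ (K a) z := fun a => by
      rw [hc1v, T.ctr_tau, hzd2, zero_smul]
      simp [hKd]
    have hb : ∀ a, c1 (τ a z') = 0 := fun a => by
      rw [hc1v, T.ctr_tau, hz'zr, zero_smul, hfz']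
      simp
    have hc : ∀ a, c1 (τ a z) = 0 := fun a => by
      rw [hc1v, T.ctr_tau, T.ω_self, zero_smul, hfz]
      simp
    have hz'c : ∀ v, T.ctr z' (c1 v) = 0 := fun v => by
      rw [hc1v, map_add, map_sub, hiz', T.ctr_tau, T.ctr_tau, hz'z, zero_smul, zero_smul, sub_zero, add_zero]
    have hd2c : ∀ v, T.ctr d2 (c1 v) = T.adj K (T.ctr z v) := fun v => by
      rw [hc1v, map_add, map_sub, T.ctr_tau, T.ctr_tau, hzd2', zero_smul, zero_smul, sub_zero, add_zero, hK2]
    have hd2z' : ω d2 z' = 0 := hz'd2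
    have hh2 : ∀ v, T.sh d2 z' LinearMap.id v = τ (T.ctr z' v) d2 + τ (T.ctr d2 v) z' := fun v => by
      simp [Ten.sh, T.lin_apply, T.adj_one]
    have hsh : InA G (T.sh z z' (-K)) := by
      refine InA.comm hc1 (sh_one T hG hd2z') hcc
        (fun v => by simp [Ten.sh, T.lin_lin, T.ω_self, hd2z', hrefl _ _ hd2z']) fun v => ?_
      simp only [hh2, map_add, ha, hb, hz'c, hd2c, map_neg, T.ctr_tau, hz'z, hzd2', zero_smul, map_zero,
        LinearMap.zero_apply, add_zero, zero_add, neg_zero]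
      simp only [Ten.sh, LinearMap.add_apply, T.lin_apply, adj_neg T, LinearMap.neg_apply, map_neg]
      abel
    obtain ⟨s, hs⟩ := scalar_of_good T hR (good_of_sh T hG hk hzne hz'n hz'z hsh)
    refine ⟨-s, fun a => ?_⟩
    have h1 := LinearMap.congr_fun hs a
    rw [LinearMap.neg_apply, neg_eq_iff_eq_neg, LinearMap.smul_apply, LinearMap.id_apply, ← neg_smul] at h1
    exact h1
  have hall : ∀ d d2 : W, ∃ s : F, ∀ a, T.ctr d (f (τ a d2)) = s • a := by
    intro d d2
    by_cases hd : ∀ e ∈ I, ω e d = 0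
    · exact ⟨0, fun a => by rw [himg _ d hd, zero_smul]⟩
    push Not at hd
    obtain ⟨e, he, hed⟩ := hd
    set c := -(ω d2 d) / ω e d
    obtain ⟨s, hs⟩ := hK d (d2 + c • e) (by
      rw [map_add, LinearMap.add_apply, map_smul, LinearMap.smul_apply, smul_eq_mul]
      simp only [c]
      field_simp
      ring)
    refine ⟨s, fun a => ?_⟩
    have := hs a
    rwa [map_add, map_add, map_smul, map_smul, hz a e fun e' he' => hI e' he' e he, smul_zero, add_zero] at this
  obtain ⟨θ', hθ', -⟩ := Submodule.exists_dual_map_eq_bot_of_notMem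
    (x := a₀) (p := (⊥ : Submodule F U)) (by simpa using ha₀) inferInstance
  set θ : U →ₗ[F] F := (θ' a₀)⁻¹ • θ'
  have hθ : θ a₀ = 1 := by simp [θ, inv_mul_cancel₀ hθ']
  refine ⟨rd T θ ∘ₗ f ∘ₗ τ a₀, fun a x => sub_eq_zero.1 (T.eq_zero fun d => ?_)⟩
  obtain ⟨s, hs⟩ := hall d x
  rw [map_sub, T.ctr_tau, hs, LinearMap.comp_apply, LinearMap.comp_apply, ω_rd, hs, map_smul, hθ, smul_eq_mul,
    mul_one, sub_self]

end Cfsg.Lib.Linear.SpTensor
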