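import Cfsg.Agent.Lib.Linear.SpTensor.Ten

/-!
# Coefficients of the short root elements in an overgroup

The coefficients available form a subalgebra closed under the adjoint and under conjugation by
the symplectic transvections of the first factor, hence are scalars or everything.
-/

set_option autoImplicit false
set_option linter.unusedSectionVars false

namespace Cfsg.Lib.Linear.SpTensor

open Module
open scoped Matrix
open Cfsg.Lib.Linear.Orth

variable {ι : Type} [Fintype ι] [DecidableEq ι] {F U W : Type*} [Field F]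
  [AddCommGroup U] [Module F U] [FiniteDimensional F U]
  [AddCommGroup W] [Module F W] [FiniteDimensional F W]
  {Q : (ι → F) → F} {B : LinearMap.BilinForm F (ι → F)}
  {α : LinearMap.BilinForm F U} {ω : LinearMap.BilinForm F W} {τ : U →ₗ[F] W →ₗ[F] (ι → F)}
  {G : Subgroup (GL ι F)}

/-- The group is orthogonal and contains the transvections of both factors. -/
structure Over (T : Ten Q B α ω τ) (G : Subgroup (GL ι F)) : Prop where
  le : G ≤ isometryGroup F Q
  right : ∀ (z : W) (c : F), InA G (c • T.lin z z LinearMap.id)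
  left : ∀ (e : U) (c : F), InA G (c • T.swap.lin e e LinearMap.id)

/-- The group preserves the bilinear form and contains the transvections of the second factor. -/
structure OverR (T : Ten Q B α ω τ) (G : Subgroup (GL ι F)) : Prop where
  act : ∀ g ∈ G, ∀ u v : ι → F, B (g.val *ᵥ u) (g.val *ᵥ v) = B u v
  right : ∀ (z : W) (c : F), InA G (c • T.lin z z LinearMap.id)

theorem Over.toR {T : Ten Q B α ω τ} (hG : Over T G) : OverR T G :=
  ⟨fun _ hg => T.space.B_act (hG.le hg), hG.right⟩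

/-- The coefficient is available at every orthogonal pair. -/
def Good (T : Ten Q B α ω τ) (G : Subgroup (GL ι F)) (φ : U →ₗ[F] U) : Prop :=
  ∀ x y : W, x ≠ 0 → y ∉ Submodule.span F {x} → ω x y = 0 → InA G (T.sh x y φ)

variable (T : Ten Q B α ω τ) (hG : OverR T G)
include T hG

/-- An element moving one vector of the second factor to another. -/
theorem exists_move {x y : W} (hx : x ≠ 0) (hy : y ≠ 0) :
    ∃ g ∈ G, ∃ R : W → W, (∀ a z, g.val *ᵥ τ a z = τ a (R z)) ∧ R y = x := by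
  have step : ∀ {x y : W}, ω y x ≠ 0 →
      ∃ g ∈ G, ∃ R : W → W, (∀ a z, g.val *ᵥ τ a z = τ a (R z)) ∧ R y = x := by
    intro x y h
    obtain ⟨g, hg, hgv⟩ := hG.right (x - y) (ω y x)⁻¹
    refine ⟨g, hg, fun z => z + ((ω y x)⁻¹ * ω z (x - y)) • (x - y), fun a z => ?_, ?_⟩
    · rw [hgv, LinearMap.smul_apply, T.lin_apply, T.ctr_tau, LinearMap.id_apply, map_smul,
        LinearMap.smul_apply, smul_smul, map_add, map_smul]
    · simp only [map_sub, T.ω_self, sub_zero, inv_mul_cancel₀ h, one_smul]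
      abel
  obtain ⟨a, ha⟩ := T.exists_nonorth hy
  obtain ⟨b, hb⟩ := T.exists_nonorth hx
  obtain ⟨w, h1, h2⟩ : ∃ w, ω y w ≠ 0 ∧ ω w x ≠ 0 := by
    by_cases hax : ω a x = 0
    · by_cases hyb : ω y b = 0
      · refine ⟨a + b, by simp [ha, hyb], ?_⟩
        rw [map_add, LinearMap.add_apply, hax, T.ω_symm b x, hb]
        simp
      · exact ⟨b, hyb, by rw [T.ω_symm b x, hb]; simp⟩
    · exact ⟨a, by simp [ha], hax⟩
  obtain ⟨g, hg, R, hR, hRy⟩ := step h1
  obtain ⟨g', hg', R', hR', hRw⟩ := step h2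
  exact ⟨g' * g, G.mul_mem hg' hg, R' ∘ R, fun c z => by rw [mul_act, hR, hR']; rfl,
    by simp [hRy, hRw]⟩

theorem ctr_move {g : GL ι F} (hg : g ∈ G) {R : W → W} (hR : ∀ a z, g.val *ᵥ τ a z = τ a (R z))
    (y : W) (v : ι → F) : T.ctr (R y) (g.val *ᵥ v) = T.ctr y v :=
  T.α_ext fun c => by rw [T.α_ctr, T.α_ctr, ← hR, hG.act _ hg]

/-- The coefficients of long elements do not depend on the centre. -/
theorem long_move {x y : W} (hx : x ≠ 0) (hy : y ≠ 0) {φ : U →ₗ[F] U}
    (h : InA G (T.lin y y φ)) : InA G (T.lin x x φ) := by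
  obtain ⟨g, hg, R, hR, hRy⟩ := exists_move T hG hx hy
  refine h.conj hg fun v => ?_
  rw [← hRy, T.lin_apply, T.lin_apply, ctr_move T hG hg hR, hR]

/-- The short element with coefficient one. -/
theorem sh_one {x y : W} (hxy : ω x y = 0) : InA G (T.sh x y LinearMap.id) := by
  have hyx : ω y x = 0 := by rw [T.ω_symm, hxy, neg_zero]
  have h : ∀ z : W, InA G (T.lin z z LinearMap.id) := fun z => by simpa using hG.right z 1
  have hn : ∀ z : W, InA G (-T.lin z z LinearMap.id) := fun z => (h z).neg fun v => by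
    simp [T.lin_lin, T.ω_self]
  refine (((h (x + y)).add (hn x) fun v => ?_).add (hn y) fun v => ?_).congr fun v => ?_
  · simp [T.lin_lin, T.ω_self, hxy, hyx]
  · simp [T.lin_lin, T.ω_self, hxy, hyx]
  · simp only [LinearMap.add_apply, LinearMap.neg_apply, Ten.sh, T.adj_one, T.lin_apply, map_add,
      LinearMap.id_apply]
    abel

/-- The product of coefficients. -/
theorem step {x y y' z : W} {φ ψ ρ : U →ₗ[F] U} (hxy : ω x y = 0) (h1 : ω y' y = 1)
    (h2 : ω y' x = 0) (h3 : ω z x = 0) (h4 : ω z y = 0) (h5 : ω z y' = 0)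
    (hf : InA G (T.sh x y φ + T.lin x x ρ)) (hh : InA G (T.sh y' z ψ)) :
    InA G (T.sh x z (φ ∘ₗ ψ)) := by
  have e1 : ω y x = 0 := by rw [T.ω_symm, hxy, neg_zero]
  have e2 : ω x y' = 0 := by rw [T.ω_symm, h2, neg_zero]
  have e3 : ω x z = 0 := by rw [T.ω_symm, h3, neg_zero]
  have e4 : ω y z = 0 := by rw [T.ω_symm, h4, neg_zero]
  have e5 : ω y' z = 0 := by rw [T.ω_symm, h5, neg_zero]
  have e6 : ω y y' = -1 := by rw [T.ω_symm, h1]
  refine InA.comm hf hh (fun v => ?_) (fun v => ?_) fun v => ?_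
  · simp [Ten.sh, T.lin_lin, T.ω_self, hxy, e1]
  · simp [Ten.sh, T.lin_lin, T.ω_self, h5, e5]
  · simp [Ten.sh, T.lin_lin, T.ω_self, T.adj_comp, hxy, h1, h2, h3, h4, h5, e1, e2, e3, e4, e5, e6]

theorem step' {x y y' z : W} {φ ψ : U →ₗ[F] U} (hxy : ω x y = 0) (h1 : ω y' y = 1)
    (h2 : ω y' x = 0) (h3 : ω z x = 0) (h4 : ω z y = 0) (h5 : ω z y' = 0)
    (hf : InA G (T.sh x y φ)) (hh : InA G (T.sh y' z ψ)) : InA G (T.sh x z (φ ∘ₗ ψ)) :=
  step T hG (ρ := 0) hxy h1 h2 h3 h4 h5 (hf.congr fun v => by simp [T.lin_apply]) hh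

theorem moveR (hk : 6 ≤ finrank F W) {x y z : W} {φ : U →ₗ[F] U} (hx : x ≠ 0)
    (hy : y ∉ Submodule.span F {x}) (hz : z ∉ Submodule.span F {x}) (hxy : ω x y = 0)
    (hxz : ω x z = 0) (h : InA G (T.sh x y φ)) : InA G (T.sh x z φ) := by
  obtain ⟨w, hw, hw1, hw2⟩ := Ten.exists_avoid (ω := ω) ![x, y, z] (Submodule.span F {x, y})
    (Submodule.span F {x, z}) (by have := Ten.finrank_pair_le (F := F) x y; omega)
    (by have := Ten.finrank_pair_le (F := F) x z; omega)
  have hwx : ω w x = 0 := hw 0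
  have hwy : ω w y = 0 := hw 1
  have hwz : ω w z = 0 := hw 2
  have one : ∀ {y z : W}, y ∉ Submodule.span F {x} → z ∉ Submodule.span F {x, y} →
      ω x y = 0 → ω z x = 0 → ω z y = 0 → InA G (T.sh x y φ) → InA G (T.sh x z φ) := by
    intro y z hy hz hxy hzx hzy h
    have hy' : y ∉ Submodule.span F {x, z} := fun hm => by
      obtain ⟨s, t, e⟩ := Submodule.mem_span_pair.1 hm
      rcases eq_or_ne t 0 with rfl | ht
      · exact hy (Submodule.mem_span_singleton.2 ⟨s, by rw [← e]; simp⟩)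
      · refine hz (Submodule.mem_span_pair.2 ⟨-(t⁻¹ * s), t⁻¹, ?_⟩)
        rw [← e, smul_add, smul_smul, smul_smul, inv_mul_cancel₀ ht, one_smul, neg_smul]
        abel
    obtain ⟨y', hp, hyy'⟩ := T.exists_dual _ hy'
    have hxy' := hp x (Submodule.mem_span_pair.2 ⟨1, 0, by simp⟩)
    have hzy' := hp z (Submodule.mem_span_pair.2 ⟨0, 1, by simp⟩)
    have := step' T hG (y' := -y') hxy (by simp [T.ω_symm y' y, hyy'])
      (by simp [T.ω_symm y' x, hxy']) hzx hzy (by simp [hzy']) h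
      (sh_one T hG (by simp [T.ω_symm y' z, hzy']))
    simpa using this
  have h1 := one hy hw1 hxy hwx hwy h
  refine one (fun hm => hw1 ?_) ?_ (by rw [T.ω_symm, hwx, neg_zero])
    (by rw [T.ω_symm, hxz, neg_zero]) (by rw [T.ω_symm, hwz, neg_zero]) h1
  · exact Submodule.span_mono (by simp) hm
  · intro hm
    obtain ⟨s, t, e⟩ := Submodule.mem_span_pair.1 hm
    rcases eq_or_ne t 0 with rfl | ht
    · exact hz (Submodule.mem_span_singleton.2 ⟨s, by rw [← e]; simp⟩)
    · refine hw2 (Submodule.mem_span_pair.2 ⟨-(t⁻¹ * s), t⁻¹, ?_⟩)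
      rw [← e, smul_add, smul_smul, smul_smul, inv_mul_cancel₀ ht, one_smul, neg_smul]
      abel

theorem good_of_sh (hk : 6 ≤ finrank F W) {x y : W} {φ : U →ₗ[F] U} (hx : x ≠ 0)
    (hy : y ∉ Submodule.span F {x}) (hxy : ω x y = 0) (h : InA G (T.sh x y φ)) : Good T G φ := by
  intro p q hp hq hpq
  obtain ⟨z, hz, hz1, hz2⟩ := Ten.exists_avoid (ω := ω) ![x, p] (Submodule.span F {x})
    (Submodule.span F {p}) (by rw [finrank_span_singleton hx]; omega)
    (by rw [finrank_span_singleton hp]; omega)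
  have hzx : ω z x = 0 := hz 0
  have hzp : ω z p = 0 := hz 1
  have hsym : ∀ {a b : W}, a ≠ 0 → b ∉ Submodule.span F {a} → a ∉ Submodule.span F {b} := by
    intro a b ha hb hm
    obtain ⟨t, rfl⟩ := Submodule.mem_span_singleton.1 hm
    refine hb (Submodule.mem_span_singleton.2 ⟨t⁻¹, ?_⟩)
    rw [smul_smul, inv_mul_cancel₀ (fun e => ha (by rw [e, zero_smul])), one_smul]
  have hz0 : z ≠ 0 := fun e => hz1 (e ▸ Submodule.zero_mem _)
  have h1 := moveR T hG hk hx hy hz1 hxy (by rw [T.ω_symm, hzx, neg_zero]) h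
  rw [T.sh_comm] at h1
  have h2 := moveR T hG hk hz0 (hsym hx hz1) (hsym hp hz2) hzx hzp h1
  rw [T.sh_comm, T.adj_adj] at h2
  exact moveR T hG hk hp hz2 hq (by rw [T.ω_symm, hzp, neg_zero]) hpq h2

/-- A self-adjoint long coefficient is a short one. -/
theorem good_of_long (hk : 6 ≤ finrank F W) {y : W} (hy : y ≠ 0) {φ : U →ₗ[F] U}
    (hφ : T.adj φ = φ) (h : InA G (T.lin y y φ)) : Good T G φ := by
  obtain ⟨x, hx, hx1, -⟩ := Ten.exists_avoid (ω := ω) ![y] (Submodule.span F {y}) ⊥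
    (by rw [finrank_span_singleton hy]; omega) (by simp; omega)
  have hxy : ω x y = 0 := hx 0
  have hx0 : x ≠ 0 := fun e => hx1 (e ▸ Submodule.zero_mem _)
  obtain ⟨y'', hp, hyy⟩ := T.exists_dual (Submodule.span F {x}) (x := y) fun hm => by
    obtain ⟨t, rfl⟩ := Submodule.mem_span_singleton.1 hm
    exact hx1 (Submodule.mem_span_singleton.2 ⟨t⁻¹, by
      rw [smul_smul, inv_mul_cancel₀ (fun e => hy (by rw [e, zero_smul])), one_smul]⟩)
  have hxy'' := hp x (Submodule.mem_span_singleton_self x)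
  set y' := -y'' with hy'
  have h1 : ω y' y = 1 := by simp [hy', T.ω_symm y'' y, hyy]
  have h2 : ω x y' = 0 := by simp [hy', hxy'']
  have e0 : ω y x = 0 := by rw [T.ω_symm, hxy, neg_zero]
  have e1 : ω y y' = -1 := by rw [T.ω_symm, h1]
  have e2 : ω y' x = 0 := by rw [T.ω_symm, h2, neg_zero]
  have hc : InA G (T.sh x y φ - T.lin x x φ) :=
    InA.comm h (sh_one T hG h2) (fun v => by simp [T.lin_lin, T.ω_self])
      (fun v => by simp [Ten.sh, T.lin_lin, T.ω_self, h2, e2])
      fun v => by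
        simp [Ten.sh, T.lin_lin, T.ω_self, T.adj_one, hφ, hxy, h1, h2, e0, e1, e2,
          LinearMap.id_comp, LinearMap.comp_id]
        abel
  refine good_of_sh T hG hk hx0 (fun hm => ?_) hxy
    ((hc.add (long_move T hG hx0 hy h) fun v => ?_).congr fun v => ?_)
  · obtain ⟨t, rfl⟩ := Submodule.mem_span_singleton.1 hm
    exact hx1 (Submodule.mem_span_singleton.2 ⟨t⁻¹, by
      rw [smul_smul, inv_mul_cancel₀ (fun e => hy (by rw [e, zero_smul])), one_smul]⟩)
  · simp [Ten.sh, T.lin_lin, T.ω_self, hxy]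
  · simp

theorem Good.adj {φ : U →ₗ[F] U} (h : Good T G φ) : Good T G (T.adj φ) := by
  intro x y hx hy hxy
  rw [T.sh_comm, T.adj_adj]
  refine h y x (fun e => hy (e ▸ Submodule.zero_mem _)) (fun hm => ?_)
    (by rw [T.ω_symm, hxy, neg_zero])
  obtain ⟨t, rfl⟩ := Submodule.mem_span_singleton.1 hm
  exact hy (Submodule.mem_span_singleton.2 ⟨t⁻¹, by
    rw [smul_smul, inv_mul_cancel₀ (fun e => hx (by rw [e, zero_smul])), one_smul]⟩)

theorem Good.mul (hk : 6 ≤ finrank F W) {φ ψ : U →ₗ[F] U} (h : Good T G φ) (h' : Good T G ψ) :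
    Good T G (φ ∘ₗ ψ) := by
  intro x z hx hz hxz
  obtain ⟨y, hyp, hy1, -⟩ := Ten.exists_avoid (ω := ω) ![x, z] (Submodule.span F {x, z}) ⊥
    (by have := Ten.finrank_pair_le (F := F) x z; omega) (by simp; omega)
  have hyx : ω y x = 0 := hyp 0
  have hyz : ω y z = 0 := hyp 1
  obtain ⟨y'', hp, hyy⟩ := T.exists_dual _ hy1
  have hxy'' := hp x (Submodule.mem_span_pair.2 ⟨1, 0, by simp⟩)
  have hzy'' := hp z (Submodule.mem_span_pair.2 ⟨0, 1, by simp⟩)
  have hy' : -y'' ≠ 0 := fun e => by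
    rw [neg_eq_zero] at e
    simp [e] at hyy
  refine step' T hG (y := y) (y' := -y'') (by rw [T.ω_symm, hyx, neg_zero])
    (by simp [T.ω_symm y'' y, hyy]) (by simp [T.ω_symm y'' x, hxy''])
    (by rw [T.ω_symm, hxz, neg_zero]) (by rw [T.ω_symm, hyz, neg_zero]) (by simp [hzy''])
    (h x y hx (fun hm => hy1 (Submodule.span_mono (by simp) hm))
      (by rw [T.ω_symm, hyx, neg_zero]))
    (h' _ z hy' (fun hm => ?_) (by simp [T.ω_symm y'' z, hzy'']))
  obtain ⟨t, ht⟩ := Submodule.mem_span_singleton.1 hm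
  have h0 : ω y z = 0 := hyz
  rw [← ht, map_smul, map_neg, hyy, smul_eq_mul, mul_neg, mul_one, neg_eq_zero] at h0
  rw [h0, zero_smul] at ht
  exact hz (ht ▸ Submodule.zero_mem _)

/-- The algebra of coefficients. -/
def goodAlg (hk : 6 ≤ finrank F W) : Subalgebra F (Module.End F U) where
  carrier := {φ | Good T G φ}
  mul_mem' h h' := Good.mul T hG hk h h'
  one_mem' x y _ _ hxy := sh_one T hG hxy
  add_mem' {a b} ha hb x y hx hy hxy := by
    refine ((ha x y hx hy hxy).add (hb x y hx hy hxy) fun v => ?_).congr fun v => ?_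
    · simp [Ten.sh, T.lin_lin, T.ω_self, hxy, T.ω_symm y x]
    · simp only [Ten.sh, LinearMap.add_apply, T.adj_add, T.lin_apply, map_add]
      abel
  zero_mem' x y _ _ _ := InA.zero.congr fun v => by simp [Ten.sh, T.lin_apply, T.adj_zero]
  algebraMap_mem' c x y _ _ hxy := by
    refine (sh_one T hG (x := c • x) (y := y) (by simp [hxy])).congr fun v => ?_
    rw [Algebra.algebraMap_eq_smul_one, Module.End.one_eq_id]
    simp only [Ten.sh, LinearMap.add_apply, T.adj_smul, T.adj_one, T.lin_apply, map_smul,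
      LinearMap.id_apply, LinearMap.smul_apply]

theorem mem_goodAlg {hk : 6 ≤ finrank F W} {φ : Module.End F U} :
    φ ∈ goodAlg T hG hk ↔ Good T G φ := Iff.rfl

omit hG in
theorem goodAlg_conj (hG : Over T G) (hk : 6 ≤ finrank F W) {φ : Module.End F U}
    (hφ : φ ∈ goodAlg T hG.toR hk)
    (e : U) (c : F) :
    (LinearMap.id + c • Ten.rk (α := α) e e) ∘ₗ φ ∘ₗ (LinearMap.id - c • Ten.rk (α := α) e e) ∈
      goodAlg T hG.toR hk := by
  intro x y hx hy hxy
  set P : U →ₗ[F] U := LinearMap.id + c • Ten.rk (α := α) e e with hP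
  set P' : U →ₗ[F] U := LinearMap.id - c • Ten.rk (α := α) e e with hP'
  have hPP : ∀ a, P' (P a) = a := fun a => by
    simp [hP, hP', Ten.rk_apply, T.α_self]
  have hadj : ∀ a b, α (P a) b = α a (P' b) := fun a b => by
    simp [hP, hP', Ten.rk_apply, T.α_symm e b]
    ring
  have hadjP : T.adj P' = P := LinearMap.ext fun a => T.α_ext fun b => by rw [T.α_adj, hadj]
  have hadjP' : T.adj P = P' := by rw [← hadjP, T.adj_adj]
  obtain ⟨g, hg, hgv⟩ := hG.left e c
  have hgt : ∀ a z, g.val *ᵥ τ a z = τ (P a) z := fun a z => by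
    rw [hgv, LinearMap.smul_apply, T.swap.lin_apply,
      show τ a z = τ.flip z a from rfl, T.swap.ctr_tau]
    simp [hP, Ten.rk_apply, smul_smul]
  have hctr : ∀ z v, T.ctr z (g.val *ᵥ v) = P (T.ctr z v) := fun z v => T.α_ext fun b => by
    have hb : P (P' b) = b := by
      simp [hP, hP', Ten.rk_apply, T.α_self]
    rw [T.α_ctr, hadj, T.α_ctr]
    conv_lhs => rw [← hb, ← hgt, T.space.B_act (hG.le hg)]
  refine (hφ x y hx hy hxy).conj hg fun v => ?_
  simp only [Ten.sh, LinearMap.add_apply, T.lin_apply, T.adj_comp, hadjP', hadjP,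
    LinearMap.comp_apply, hctr, hPP, Matrix.mulVec_add, hgt]

end Cfsg.Lib.Linear.SpTensor
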