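import Cfsg.Agent.Lib.Linear.SpTensor.Coeff

/-!
# A moved line gives a non-scalar coefficient

An overgroup of the transvections of both factors moving the line of a vector of the second factor
contains a short root element with a coefficient which is not a scalar.
-/

set_option autoImplicit false
set_option linter.unusedSectionVars false

namespace Cfsg.Lib.Linear.SpTensor

open Module
open scoped Matrix
open Cfsg.Lib.Linear.Orth

variable {ι : Type} [Fintype ι] [DecidableEq ι] {F U W : Type*} [Field F]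
  [AddCommGroup U] [Module F U] [FiniteDimensional F U]
  [AddCommGroup W] [Module F W] [FiniteDimensional F W]
  {Q : (ι → F) → F} {B : LinearMap.BilinForm F (ι → F)}
  {α : LinearMap.BilinForm F U} {ω : LinearMap.BilinForm F W} {τ : U →ₗ[F] W →ₗ[F] (ι → F)}
  {G : Subgroup (GL ι F)}

/-- An invertible matrix as a linear equivalence. -/
def ac (g : GL ι F) : (ι → F) ≃ₗ[F] (ι → F) where
  toFun x := g.val *ᵥ x
  map_add' := Matrix.mulVec_add _
  map_smul' c x := Matrix.mulVec_smul _ c x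
  invFun x := (g⁻¹ : GL ι F).val *ᵥ x
  left_inv x := inv_act g x
  right_inv x := act_inv g x

theorem ac_apply (g : GL ι F) (x : ι → F) : ac g x = g.val *ᵥ x := rfl

variable (τ) in
/-- The line of a vector of the second factor. -/
def tl (b : W) : Submodule F (ι → F) := LinearMap.range (τ.flip b)

theorem mem_tl {b : W} {v : ι → F} : v ∈ tl τ b ↔ ∃ a, τ a b = v := Iff.rfl

theorem tau_mem_tl (a : U) (b : W) : τ a b ∈ tl τ b := ⟨a, rfl⟩

variable (T : Ten Q B α ω τ)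
include T

theorem tau_inj {b : W} (hb : b ≠ 0) {a a' : U} (h : τ a b = τ a' b) : a = a' := by
  obtain ⟨z, hz⟩ := T.exists_nonorth hb
  have := congrArg (T.ctr z) h
  rwa [T.ctr_tau, T.ctr_tau, hz, one_smul, one_smul] at this

theorem finrank_tl {b : W} (hb : b ≠ 0) : finrank F (tl τ b) = finrank F U :=
  LinearMap.finrank_range_of_inj fun _ _ h => tau_inj T hb h

theorem mem_tl_of {b : W} (hb : b ≠ 0) {v : ι → F} (h : ∀ μ, ω b μ = 0 → T.ctr μ v = 0) :
    v ∈ tl τ b := by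
  obtain ⟨z, hz⟩ := T.exists_nonorth hb
  refine ⟨T.ctr z v, ?_⟩
  rw [LinearMap.flip_apply, ← sub_eq_zero]
  refine T.eq_zero fun w => ?_
  have h1 := h (w - ω b w • z) (by simp [hz])
  rw [map_sub, LinearMap.sub_apply, map_smul, LinearMap.smul_apply, sub_eq_zero] at h1
  rw [map_sub, T.ctr_tau, h1, sub_self]

theorem tl_smul {t : F} (ht : t ≠ 0) (b : W) : tl τ (t • b) = tl τ b := by
  ext v
  constructor
  · rintro ⟨a, rfl⟩
    exact ⟨t • a, by simp⟩
  · rintro ⟨a, rfl⟩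
    exact ⟨t⁻¹ • a, by simp [smul_smul, mul_inv_cancel₀ ht, inv_mul_cancel₀ ht]⟩

theorem tl_eq_of_common {b b' : W} (hb : b ≠ 0) {v : ι → F} (hv : v ≠ 0) (h : v ∈ tl τ b)
    (h' : v ∈ tl τ b') : tl τ b' = tl τ b := by
  obtain ⟨a, rfl⟩ := h
  obtain ⟨a', e⟩ := h'
  by_cases hm : b' ∈ Submodule.span F {b}
  · obtain ⟨t, rfl⟩ := Submodule.mem_span_singleton.1 hm
    refine tl_smul T (fun ht => hv ?_) b
    rw [← e, ht, zero_smul]
    simp
  · obtain ⟨y, hy, hy'⟩ := T.exists_dual _ hm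
    have h1 := congrArg (T.ctr y) e
    rw [LinearMap.flip_apply, LinearMap.flip_apply, T.ctr_tau, T.ctr_tau, hy',
      hy b (Submodule.mem_span_singleton_self b), one_smul, zero_smul] at h1
    exact absurd (by rw [← e, h1]; simp) hv

variable (hG : OverR T G)
include hG

omit hG in
variable (G) in
/-- An image of a line which is not a line. -/
def Moved (S : Submodule F (ι → F)) : Prop :=
  (∃ g ∈ G, ∃ v : W, v ≠ 0 ∧ S = (tl τ v).map (ac g : (ι → F) →ₗ[F] (ι → F))) ∧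
    ∀ b : W, b ≠ 0 → S ≠ tl τ b

omit hG in
variable (G) in
/-- A non-scalar coefficient is available. -/
def Rich : Prop := ∃ φ, Good T G φ ∧ ∀ t : F, φ ≠ t • LinearMap.id

omit hG in
theorem Moved.finrank_eq {S : Submodule F (ι → F)} (h : Moved (τ := τ) G S) :
    finrank F S = finrank F U := by
  obtain ⟨⟨g, -, v, hv, rfl⟩, -⟩ := h
  rw [LinearEquiv.finrank_map_eq, finrank_tl T hv]

omit hG in
theorem Moved.not_le {S : Submodule F (ι → F)} (h : Moved (τ := τ) G S) {b : W} (hb : b ≠ 0) :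
    ¬ S ≤ tl τ b := fun hle =>
  h.2 b hb (Submodule.eq_of_le_of_finrank_eq hle (by rw [h.finrank_eq T, finrank_tl T hb]))

omit hG in
theorem scalar_of_good (hR : ¬ Rich G T) {φ : U →ₗ[F] U} (h : Good T G φ) :
    ∃ t : F, φ = t • LinearMap.id := by
  by_contra hc
  push Not at hc
  exact hR ⟨φ, h, hc⟩

/-- An element mapping the orthogonal of a line to it gives a coefficient. -/
theorem extract (hk : 6 ≤ finrank F W) {f : (ι → F) →ₗ[F] (ι → F)} (hf : InA G f)
    (ff : ∀ v, f (f v) = 0) {b w : W} (hb0 : b ≠ 0) (hbw : ω b w = 0)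
    (hw : w ∉ Submodule.span F {b}) {χ : U →ₗ[F] U}
    (hχ : ∀ v, T.ctr w (f v) = χ (T.ctr b v)) (hb : ∀ v, T.ctr b (f v) = 0) : Good T G χ := by
  have hwb : ω w b = 0 := by rw [T.ω_symm, hbw, neg_zero]
  have hft : ∀ c, f (τ c w) = -τ (T.adj χ c) b := by
    intro c
    rw [← sub_eq_zero, sub_neg_eq_add]
    refine T.space.nondeg' fun v => ?_
    rw [map_add, LinearMap.add_apply, hf.skew' hG.act ff, T.space.symm (τ c w), ← T.α_ctr, hχ,
      ← T.α_adj', T.space.symm (τ (T.adj χ c) b), ← T.α_ctr]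
    ring
  have hc : InA G (T.sh b w (T.adj χ) + T.lin b b (-(T.adj χ ∘ₗ χ))) := by
    refine InA.comm (f := T.lin w w LinearMap.id) (h := f) (by simpa using hG.right w 1) hf
      (fun v => by simp [T.lin_lin, T.ω_self]) ff fun v => ?_
    simp [Ten.sh, T.adj_adj, T.lin_apply, hχ, hft, T.ctr_tau, hbw]
    abel
  have hb_w : b ∉ Submodule.span F {w} := fun hm => by
    obtain ⟨t, rfl⟩ := Submodule.mem_span_singleton.1 hm
    exact hw (Submodule.mem_span_singleton.2 ⟨t⁻¹, by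
      rw [smul_smul, inv_mul_cancel₀ (fun e => hb0 (by rw [e, zero_smul])), one_smul]⟩)
  obtain ⟨y'', hp, hyy⟩ := T.exists_dual _ hw
  have hby := hp b (Submodule.mem_span_singleton_self b)
  obtain ⟨z, hz, hz1, -⟩ := Ten.exists_avoid (ω := ω) ![b, w, y''] (Submodule.span F {b}) ⊥
    (by rw [finrank_span_singleton hb0]; omega) (by simp; omega)
  have hzb : ω z b = 0 := hz 0
  have hzw : ω z w = 0 := hz 1
  have hzy : ω z y'' = 0 := hz 2
  have h1 := step T hG (y' := -y'') (ψ := LinearMap.id) hbw (by simp [T.ω_symm y'' w, hyy])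
    (by simp [T.ω_symm y'' b, hby]) hzb hzw (by simp [hzy]) hc
    (sh_one T hG (by simp [T.ω_symm y'' z, hzy]))
  rw [LinearMap.comp_id] at h1
  have h2 := good_of_sh T hG hk hb0 hz1 (by rw [T.ω_symm, hzb, neg_zero]) h1
  simpa [T.adj_adj] using Good.adj T hG h2

theorem ctr_fix {h : GL ι F} (hh : h ∈ G) {b : W} {ψ : U →ₗ[F] U}
    (hψ : ∀ a, h.val *ᵥ τ a b = τ (ψ a) b) (v : ι → F) :
    T.ctr b v = T.adj ψ (T.ctr b (h.val *ᵥ v)) := T.α_ext fun c => by
  rw [T.α_adj, T.α_ctr, T.α_ctr, ← hψ, hG.act _ hh]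

omit hG in
theorem bijective_fix {h : GL ι F} {b : W} (hb : b ≠ 0) {ψ : U →ₗ[F] U}
    (hψ : ∀ a, h.val *ᵥ τ a b = τ (ψ a) b) : Function.Bijective ψ := by
  have hi : Function.Injective ψ := fun a a' e => tau_inj T hb
    (act_injective h (by show h.val *ᵥ τ a b = h.val *ᵥ τ a' b; rw [hψ, hψ, e]))
  exact ⟨hi, LinearMap.surjective_of_injective hi⟩

/-- The component of an element fixing a line. -/
theorem fix_scalar (hk : 6 ≤ finrank F W) (hR : ¬ Rich G T) {h : GL ι F} (hh : h ∈ G) {b : W}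
    (hb0 : b ≠ 0) {ψ : U →ₗ[F] U} (hψ : ∀ a, h.val *ᵥ τ a b = τ (ψ a) b) {u w : W}
    (hbu : ω b u = 0) (hbw : ω b w = 0) (hw : w ∉ Submodule.span F {b}) :
    ∃ t : F, ∀ a, T.ctr w (h.val *ᵥ τ (T.adj ψ a) u) = t • a := by
  let hL : (ι → F) →ₗ[F] (ι → F) := (ac h).toLinearMap
  let φ : U →ₗ[F] U := T.ctr w ∘ₗ hL ∘ₗ τ.flip u
  let f : (ι → F) →ₗ[F] (ι → F) := hL ∘ₗ T.sh b u LinearMap.id ∘ₗ (ac h).symm.toLinearMap
  have hub : ω u b = 0 := by rw [T.ω_symm, hbu, neg_zero]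
  have hfa : ∀ v, f v = h.val *ᵥ T.sh b u LinearMap.id ((h⁻¹ : GL ι F).val *ᵥ v) := fun v => rfl
  have hf : InA G f := (sh_one T hG hbu).conj hh fun v => by rw [hfa, inv_act]
  have ff : ∀ v, f (f v) = 0 := fun v => by
    rw [hfa, hfa, inv_act]
    simp [Ten.sh, T.lin_lin, T.ω_self, hbu, hub]
  have hsur := (bijective_fix T hb0 hψ).2
  have h0 : ∀ v, T.ctr b (f v) = 0 := fun v => T.α_ext fun c => by
    obtain ⟨c', rfl⟩ := hsur c
    rw [T.α_ctr, hfa, ← hψ, hG.act _ hh, ← T.α_ctr]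
    simp [Ten.sh, T.lin_apply, T.ctr_tau, T.ω_self, hub]
  have hχ : ∀ v, T.ctr w (f v) = (φ ∘ₗ T.adj ψ) (T.ctr b v) := fun v => by
    have h1 := ctr_fix T hG hh hψ ((h⁻¹ : GL ι F).val *ᵥ v)
    rw [act_inv] at h1
    rw [hfa]
    simp only [Ten.sh, T.adj_one, LinearMap.add_apply, T.lin_apply, LinearMap.id_apply,
      Matrix.mulVec_add, hψ, map_add, T.ctr_tau, hbw, zero_smul, zero_add, LinearMap.comp_apply, h1]
    rfl
  obtain ⟨t, ht⟩ := scalar_of_good T hR (extract T hG hk hf ff hb0 hbw hw hχ h0)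
  exact ⟨t, fun a => by
    have := LinearMap.congr_fun ht a
    simpa [φ, hL, ac_apply] using this⟩

omit hG in
variable (G) in
/-- A quadratic element whose image is a moved line. -/
structure Quad (X : (ι → F) →ₗ[F] (ι → F)) (S : Submodule F (ι → F)) : Prop where
  mem : InA G X
  moved : Moved (τ := τ) G S
  range : LinearMap.range X = S
  sq : ∀ v, X (X v) = 0

theorem Quad.skew {X : (ι → F) →ₗ[F] (ι → F)} {S : Submodule F (ι → F)}
    (hX : Quad (τ := τ) G X S) (u v : ι → F) : B (X u) v = -B u (X v) :=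
  hX.mem.skew' hG.act hX.sq u v

omit hG in
theorem Quad.apply_mem {X : (ι → F) →ₗ[F] (ι → F)} {S : Submodule F (ι → F)}
    (hX : Quad (τ := τ) G X S) (v : ι → F) : X v ∈ S := hX.range ▸ LinearMap.mem_range_self X v

omit hG in
theorem Quad.inj_of_surj {X : (ι → F) →ₗ[F] (ι → F)} {S : Submodule F (ι → F)}
    (hX : Quad (τ := τ) G X S) (w : W) (hs : ∀ a : U, ∃ v, T.ctr w (X v) = a)
    {M : ι → F} (hM : M ∈ S) (h : T.ctr w M = 0) : M = 0 := by
  let L : S →ₗ[F] U := T.ctr w ∘ₗ S.subtype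
  have hL : Function.Surjective L := fun a => by
    obtain ⟨v, hv⟩ := hs a
    exact ⟨⟨X v, hX.apply_mem T v⟩, hv⟩
  have hi : Function.Injective L := (LinearMap.injective_iff_surjective_of_finrank_eq_finrank
    (hX.moved.finrank_eq T)).2 hL
  exact congrArg Subtype.val (hi (a₁ := ⟨M, hM⟩) (a₂ := 0) (by simpa [L] using h))

theorem kill_scalar (hk : 6 ≤ finrank F W) (hR : ¬ Rich G T) {X : (ι → F) →ₗ[F] (ι → F)}
    {S : Submodule F (ι → F)} (hX : Quad (τ := τ) G X S) {μ : W} (hμ0 : μ ≠ 0)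
    (hμ : ∀ M ∈ S, T.ctr μ M = 0) {u w : W} (hu : ω μ u = 0) (hw : ω μ w = 0) :
    ∃ t : F, ∀ a, T.ctr w (X (τ a u)) = t • a := by
  by_cases hwm : w ∈ Submodule.span F {μ}
  · obtain ⟨c, rfl⟩ := Submodule.mem_span_singleton.1 hwm
    exact ⟨0, fun a => by
      rw [map_smul, LinearMap.smul_apply, hμ _ (hX.apply_mem T _), smul_zero, zero_smul]⟩
  obtain ⟨h, hh, hhX⟩ := hX.mem
  have hkill : ∀ a, X (τ a μ) = 0 := fun a => T.space.nondeg' fun v => by
    rw [hX.skew T hG, T.space.symm (τ a μ), ← T.α_ctr, hμ _ (hX.apply_mem T v)]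
    simp
  obtain ⟨t, ht⟩ := fix_scalar T hG hk hR hh hμ0 (ψ := LinearMap.id)
    (fun a => by rw [hhX, hkill, add_zero]; rfl) hu hw hwm
  refine ⟨t - ω u w, fun a => ?_⟩
  have := ht a
  rw [T.adj_one, LinearMap.id_apply, hhX, map_add, T.ctr_tau] at this
  rw [sub_smul, ← this]
  abel

theorem not_hyperplane (hk : 6 ≤ finrank F W) (hR : ¬ Rich G T) {X : (ι → F) →ₗ[F] (ι → F)}
    {S : Submodule F (ι → F)} (hX : Quad (τ := τ) G X S) {μ : W} (hμ0 : μ ≠ 0) :
    ¬ ∀ M ∈ S, T.ctr μ M = 0 := by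
  intro hμ
  by_cases hU : ∀ a : U, a = 0
  · refine hX.moved.not_le T hμ0 fun M _ => ⟨0, ?_⟩
    rw [map_zero]
    exact (T.eq_zero fun z => hU _).symm
  push Not at hU
  obtain ⟨a₁, ha₁⟩ := hU
  -- a vector with scalar components whose image is the whole moved line
  have aux : ∀ u₀ w : W, ω μ w = 0 → (∀ a, T.ctr w (X (τ a u₀)) = a) →
      ¬ ∀ z, ω μ z = 0 → ∃ t : F, ∀ a, T.ctr z (X (τ a u₀)) = t • a := by
    intro u₀ w hw hone hsc
    obtain ⟨θ, hθ, -⟩ := Submodule.exists_dual_map_eq_bot_of_notMem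
      (x := a₁) (p := (⊥ : Submodule F U)) (by simpa using ha₁) inferInstance
    let s : W →ₗ[F] F := (θ a₁)⁻¹ • (θ ∘ₗ (LinearMap.applyₗ (X (τ a₁ u₀))) ∘ₗ T.ctr)
    have hs : ∀ z a, (∃ t : F, ∀ a, T.ctr z (X (τ a u₀)) = t • a) →
        T.ctr z (X (τ a u₀)) = s z • a := by
      rintro z a ⟨t, ht⟩
      rw [ht]
      congr 1
      simp [s, ht]
      field_simp
    have hall : ∀ z, ∃ t : F, ∀ a, T.ctr z (X (τ a u₀)) = t • a := by
      intro z
      let L : W →ₗ[F] (Fin 4 → F) :=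
        LinearMap.pi ![ω μ, ω.flip z, ω.flip u₀, s]
      obtain ⟨ν, hν, hν1⟩ : ∃ ν ∈ LinearMap.ker L, ν ∉ Submodule.span F {μ} :=
        SetLike.not_le_iff_exists.1 fun hle => by
          have h1 := L.finrank_range_add_finrank_ker
          have h2 := Submodule.finrank_le (LinearMap.range L)
          have h3 := Submodule.finrank_mono hle
          rw [finrank_span_singleton hμ0] at h3
          rw [finrank_fin_fun] at h2
          omega
      have hν' := fun i => congrFun (LinearMap.mem_ker.1 hν) i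
      have hμν : ω μ ν = 0 := hν' 0
      have hνz : ω ν z = 0 := hν' 1
      have hνu : ω ν u₀ = 0 := hν' 2
      have hsν : s ν = 0 := hν' 3
      have hν0 : ν ≠ 0 := fun e => hν1 (e ▸ Submodule.zero_mem _)
      have hkillν : ∀ M ∈ S, T.ctr ν M = 0 := by
        intro M hM
        let L' : U →ₗ[F] S :=
          { toFun := fun a => ⟨X (τ a u₀), hX.apply_mem T _⟩
            map_add' := fun a b => Subtype.ext (by simp)
            map_smul' := fun c a => Subtype.ext (by simp) }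
        have hL' : Function.Injective L' := fun a b e => by
          rw [← hone a, ← hone b]
          exact congrArg (T.ctr w) (congrArg Subtype.val e)
        obtain ⟨a, ha⟩ := (LinearMap.injective_iff_surjective_of_finrank_eq_finrank
          (hX.moved.finrank_eq T).symm).1 hL' ⟨M, hM⟩
        have he : X (τ a u₀) = M := congrArg Subtype.val ha
        rw [← he, hs ν a (hsc ν hμν), hsν, zero_smul]
      exact kill_scalar T hG hk hR hX hν0 hkillν hνu hνz
    -- the moved line is a line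
    set ℓ := (ω.toDual T.nω).symm s with hℓ
    have hX' : ∀ a, X (τ a u₀) = τ a ℓ := fun a => sub_eq_zero.1 <| T.eq_zero fun z => by
      rw [map_sub, hs z a (hall z), T.ctr_tau, hℓ, LinearMap.BilinForm.apply_toDual_symm_apply,
        sub_self]
    have hℓ0 : ℓ ≠ 0 := fun e => ha₁ (by rw [← hone a₁, hX', e]; simp)
    refine hX.moved.2 ℓ hℓ0 (Submodule.eq_of_le_of_finrank_eq ?_ ?_).symm
    · rintro _ ⟨a, rfl⟩
      rw [LinearMap.flip_apply, ← hX' a]
      exact hX.apply_mem T _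
    · rw [hX.moved.finrank_eq T, finrank_tl T hℓ0]
  have zero : ∀ u : W, (∀ z, ω μ z = 0 → ∃ t : F, ∀ a, T.ctr z (X (τ a u)) = t • a) →
      ∀ z, ω μ z = 0 → ∀ a, T.ctr z (X (τ a u)) = 0 := by
    intro u hu z hz a
    obtain ⟨t, ht⟩ := hu z hz
    rcases eq_or_ne t 0 with rfl | ht0
    · rw [ht, zero_smul]
    refine absurd (fun w hw => ?_) (aux (t⁻¹ • u) z hz fun a => ?_)
    · obtain ⟨r, hr⟩ := hu w hw
      exact ⟨t⁻¹ * r, fun a => by rw [map_smul, map_smul, map_smul, hr, smul_smul]⟩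
    · rw [map_smul, map_smul, map_smul, ht, smul_smul, inv_mul_cancel₀ ht0, one_smul]
  obtain ⟨z₁, hz₁⟩ := T.exists_nonorth hμ0
  have hperp : ∀ u, ω μ u = 0 → ∀ z, ω μ z = 0 → ∀ a, T.ctr z (X (τ a u)) = 0 := fun u hu =>
    zero u fun z hz => kill_scalar T hG hk hR hX hμ0 hμ hu hz
  have hrest : ∀ z, ω μ z = 0 → ∀ a x, T.ctr z (X (τ a x)) = ω μ x • T.ctr z (X (τ a z₁)) := by
    intro z hz a x
    have := hperp (x - ω μ x • z₁) (by simp [hz₁]) z hz a
    rw [map_sub, map_smul, map_sub, map_smul, map_sub, map_smul, sub_eq_zero] at this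
    exact this
  have hz₁0 := zero z₁ fun z hz => by
    by_cases hzm : z ∈ Submodule.span F {μ}
    · obtain ⟨c, rfl⟩ := Submodule.mem_span_singleton.1 hzm
      exact ⟨0, fun a => by
        rw [map_smul, LinearMap.smul_apply, hμ _ (hX.apply_mem T _), smul_zero, zero_smul]⟩
    set χ : U →ₗ[F] U := -(T.ctr z ∘ₗ X ∘ₗ τ.flip z₁) with hχd
    have hχ : ∀ v, T.ctr z (X v) = χ (T.ctr μ v) := fun v => LinearMap.congr_fun
      (T.hom_ext (f := T.ctr z ∘ₗ X) (g := χ ∘ₗ T.ctr μ) fun a x => by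
        rw [LinearMap.comp_apply, LinearMap.comp_apply, T.ctr_tau, map_smul, hrest z hz a x]
        rw [T.ω_symm x μ]
        simp [hχd]) v
    obtain ⟨t, ht⟩ := scalar_of_good T hR (extract T hG hk hX.mem hX.sq hμ0 hz hzm hχ
      fun v => hμ _ (hX.apply_mem T v))
    refine ⟨-t, fun a => ?_⟩
    have h1 := LinearMap.congr_fun ht a
    simp [hχd] at h1
    rw [neg_smul, ← h1, neg_neg]
  refine hX.moved.not_le T hμ0 fun M hM => mem_tl_of T hμ0 fun z hz => ?_
  rw [← hX.range] at hM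
  obtain ⟨v, rfl⟩ := hM
  exact LinearMap.congr_fun (T.hom_ext (f := T.ctr z ∘ₗ X) (g := 0) fun a x => by
    rw [LinearMap.comp_apply, hrest z hz a x, hz₁0 z hz, smul_zero, LinearMap.zero_apply]) v

theorem not_fix (hk : 6 ≤ finrank F W) (hmk : finrank F U + 2 ≤ finrank F W) (hR : ¬ Rich G T)
    {X : (ι → F) →ₗ[F] (ι → F)} {S : Submodule F (ι → F)} (hX : Quad (τ := τ) G X S) {b : W}
    (hb : b ≠ 0) : ¬ ∀ a, X (τ a b) ∈ tl τ b := by
  intro hfix
  obtain ⟨z, hz⟩ := T.exists_nonorth hb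
  let N : U →ₗ[F] U := T.ctr z ∘ₗ X ∘ₗ τ.flip b
  have hN : ∀ a, X (τ a b) = τ (N a) b := fun a => by
    obtain ⟨y, hy⟩ := hfix a
    have e : N a = y := by simp [N, ← hy, T.ctr_tau, hz]
    rw [e, ← hy]
    rfl
  obtain ⟨a₀, ha₀⟩ : ∃ a, N a ≠ 0 := by
    by_contra hc
    push Not at hc
    refine not_hyperplane T hG hk hR hX hb fun M hM => T.α_ext fun c => ?_
    rw [← hX.range] at hM
    obtain ⟨v, rfl⟩ := hM
    rw [T.α_ctr, hX.skew T hG, hN, hc]
    simp
  have hNN : ∀ a, N (N a) = 0 := fun a => tau_inj T hb (by rw [← hN, ← hN, hX.sq]; simp)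
  obtain ⟨h, hh, hhX⟩ := id hX.mem
  let ψ : U →ₗ[F] U := LinearMap.id + N
  have hψ : ∀ a, h.val *ᵥ τ a b = τ (ψ a) b := fun a => by rw [hhX, hN]; simp [ψ]
  have hbij := bijective_fix T hb hψ
  have hlong : InA G (T.lin b b (ψ ∘ₗ T.adj ψ)) := by
    refine InA.conj (f := T.lin b b LinearMap.id) (by simpa using hG.right b 1) hh fun v => ?_
    rw [T.lin_apply, T.lin_apply, LinearMap.id_apply, hψ, ctr_fix T hG hh hψ v]
    rfl
  obtain ⟨l, hl⟩ := scalar_of_good T hR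
    (good_of_long T hG hk hb (by rw [T.adj_comp, T.adj_adj]) hlong)
  have hl' : ∀ a, T.adj ψ (ψ a) = l • a := fun a => hbij.1 (by
    have := LinearMap.congr_fun hl (ψ a)
    rw [LinearMap.comp_apply] at this
    rw [this]
    simp)
  have hl0 : l ≠ 0 := fun e => by
    have h1 := hl' a₀
    rw [e, zero_smul] at h1
    have h2 : ψ a₀ ≠ 0 := fun h0 => ha₀ (by
      rw [hbij.1 (h0.trans (map_zero ψ).symm), map_zero])
    refine h2 (T.α_ext fun c => ?_)
    obtain ⟨c', rfl⟩ := hbij.2 c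
    rw [map_zero, LinearMap.zero_apply, ← T.α_adj, h1, map_zero, LinearMap.zero_apply]
  have hcomp : ∀ u w, ω b u = 0 → ω b w = 0 → w ∉ Submodule.span F {b} →
      ∀ a, T.ctr w (X (τ a u)) = ω u w • N a := by
    intro u w hu hw hwb
    obtain ⟨t, ht⟩ := fix_scalar T hG hk hR hh hb hψ hu hw hwb
    have h1 : ∀ a, T.ctr w (X (τ a u)) = (t / l - ω u w) • a + (t / l) • N a := fun a => by
      have := ht (ψ a)
      rw [hl', hhX, map_add, T.ctr_tau, map_smul τ, LinearMap.smul_apply, map_smul, map_smul] at this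
      have h2 : T.ctr w (X (τ a u)) = l⁻¹ • (t • ψ a) - ω u w • a := by
        rw [← this]
        match_scalars <;> field_simp <;> ring
      rw [h2]
      simp only [ψ, LinearMap.add_apply, LinearMap.id_apply]
      module
    by_cases hs : t / l - ω u w = 0
    · intro a
      rw [h1, hs, zero_smul, zero_add, sub_eq_zero.1 hs]
    · exfalso
      have hinj : Function.Injective (T.ctr w ∘ₗ X ∘ₗ τ.flip u) := by
        rw [← LinearMap.ker_eq_bot, LinearMap.ker_eq_bot']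
        intro a ha
        rw [LinearMap.comp_apply, LinearMap.comp_apply, LinearMap.flip_apply, h1] at ha
        have h3 := congrArg N ha
        rw [map_add, map_smul, map_smul, hNN, smul_zero, add_zero, map_zero, smul_eq_zero,
          or_iff_right hs] at h3
        rw [h3, smul_zero, add_zero, smul_eq_zero, or_iff_right hs] at ha
        exact ha
      refine ha₀ (tau_inj T hb ?_)
      rw [map_zero τ, LinearMap.zero_apply, ← hN]
      refine hX.inj_of_surj T w (fun a => ?_) (hX.apply_mem T _) ?_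
      · obtain ⟨c, hc⟩ := LinearMap.surjective_of_injective hinj a
        exact ⟨τ c u, hc⟩
      · rw [hN, T.ctr_tau, hw, zero_smul]
  let P : Submodule F W := LinearMap.ker (ω b)
  let L : P →ₗ[F] S :=
    { toFun := fun u => ⟨X (τ a₀ (u : W)), hX.apply_mem T _⟩
      map_add' := fun u v => Subtype.ext (by simp)
      map_smul' := fun c u => Subtype.ext (by simp) }
  have hinj : Function.Injective L := by
    rw [← LinearMap.ker_eq_bot, LinearMap.ker_eq_bot']
    rintro ⟨u, hu⟩ h0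
    have hu' : ω b u = 0 := hu
    have h0' : X (τ a₀ u) = 0 := congrArg Subtype.val h0
    refine Subtype.ext ?_
    by_cases hm : u ∈ Submodule.span F {b}
    · obtain ⟨c, rfl⟩ := Submodule.mem_span_singleton.1 hm
      rw [map_smul, map_smul, hN, smul_eq_zero] at h0'
      rcases h0' with hc | hc
      · simp [hc]
      · exact absurd (tau_inj T hb (hc.trans (by simp : (0 : ι → F) = τ 0 b))) ha₀
    · exfalso
      obtain ⟨y, hy, hy'⟩ := T.exists_dual _ hm
      have hby := hy b (Submodule.mem_span_singleton_self b)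
      have hyb : y ∉ Submodule.span F {b} := fun hin => by
        obtain ⟨c, rfl⟩ := Submodule.mem_span_singleton.1 hin
        rw [map_smul, T.ω_symm u b, hu'] at hy'
        simp at hy'
      have := hcomp u y hu' hby hyb a₀
      rw [h0', map_zero, hy', one_smul] at this
      exact ha₀ this.symm
  have h1 := LinearMap.finrank_le_finrank_of_injective hinj
  have h2 := (ω b).finrank_range_add_finrank_ker
  have h3 := Submodule.finrank_le (LinearMap.range (ω b))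
  rw [finrank_self] at h3
  have h4 := hX.moved.finrank_eq T
  have h5 : finrank F P = finrank F (LinearMap.ker (ω b)) := rfl
  omega

theorem quad_of_conj {g : GL ι F} (hg : g ∈ G) {v : W} (hv : v ≠ 0)
    (hmov : Moved (τ := τ) G ((tl τ v).map (ac g : (ι → F) →ₗ[F] (ι → F)))) :
    ∃ X, Quad (τ := τ) G X ((tl τ v).map (ac g : (ι → F) →ₗ[F] (ι → F))) ∧
      ∀ y, X (g.val *ᵥ y) = g.val *ᵥ τ (T.ctr v y) v := by
  let X : (ι → F) →ₗ[F] (ι → F) :=
    (ac g).toLinearMap ∘ₗ T.lin v v LinearMap.id ∘ₗ (ac g).symm.toLinearMap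
  have hXe : ∀ y, X (g.val *ᵥ y) = g.val *ᵥ τ (T.ctr v y) v := fun y => by
    show g.val *ᵥ T.lin v v LinearMap.id ((g⁻¹ : GL ι F).val *ᵥ (g.val *ᵥ y)) = _
    rw [inv_act]
    rfl
  refine ⟨X, ⟨InA.conj (f := T.lin v v LinearMap.id) (by simpa using hG.right v 1) hg
    fun y => by rw [hXe]; rfl, hmov, le_antisymm ?_ ?_, fun y => ?_⟩, hXe⟩
  · rintro _ ⟨y, rfl⟩
    rw [← act_inv g y, hXe]
    exact ⟨_, tau_mem_tl _ _, rfl⟩
  · rintro _ ⟨_, ⟨a, rfl⟩, rfl⟩
    obtain ⟨z, hz⟩ := T.exists_nonorth hv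
    refine ⟨g.val *ᵥ τ a (-z), ?_⟩
    rw [hXe, T.ctr_tau, map_neg, LinearMap.neg_apply, T.ω_symm z v, hz, neg_neg, one_smul]
    rfl
  · rw [← act_inv g y, hXe, hXe, T.ctr_tau, T.ω_self, zero_smul]
    simp

/-- A moved line gives a non-scalar coefficient. -/
theorem rich (hk : 6 ≤ finrank F W) (hmk : finrank F U + 2 ≤ finrank F W) (hU : 0 < finrank F U)
    (hmov : ∃ S, Moved (τ := τ) G S) : Rich G T := by
  classical
  by_contra hR
  have push_line : ∀ {X : (ι → F) →ₗ[F] (ι → F)} {S : Submodule F (ι → F)},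
      Quad (τ := τ) G X S → ∀ {h : GL ι F}, h ∈ G → (∀ v, h.val *ᵥ v = v + X v) →
      ∀ {b : W}, b ≠ 0 → ∀ {z : ι → F}, z ∈ tl τ b → z ≠ 0 → X z = 0 →
      Moved (τ := τ) G ((tl τ b).map (ac h : (ι → F) →ₗ[F] (ι → F))) := by
    intro X S hX h hh hhX b hb z hz hz0 hXz
    refine ⟨⟨h, hh, b, hb, rfl⟩, fun c hc e => not_fix T hG hk hmk hR hX hb fun a => ?_⟩
    have hzc : z ∈ tl τ c := e ▸ ⟨z, hz, by
      show h.val *ᵥ z = z
      rw [hhX, hXz, add_zero]⟩
    have ec : tl τ c = tl τ b := tl_eq_of_common T hb hz0 hz hzc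
    have h1 : h.val *ᵥ τ a b ∈ tl τ b := ec ▸ e ▸ ⟨_, tau_mem_tl a b, rfl⟩
    rw [hhX] at h1
    simpa using Submodule.sub_mem _ h1 (tau_mem_tl a b)
  let P : ℕ → Prop := fun d => ∃ S b, Moved (τ := τ) G S ∧ b ≠ 0 ∧ d ≤ finrank F ↥(S ⊓ tl τ b)
  have hP1 : P 1 := by
    obtain ⟨S₀, hS₀⟩ := hmov
    obtain ⟨⟨g₀, hg₀, v₀, hv₀, rfl⟩, -⟩ := id hS₀
    obtain ⟨X₀, hQ₀, -⟩ := quad_of_conj T hG hg₀ hv₀ hS₀
    obtain ⟨a₁, ha₁⟩ : ∃ a : U, a ≠ 0 := by
      by_contra hc
      push Not at hc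
      have : Subsingleton U := ⟨fun a b => by rw [hc a, hc b]⟩
      rw [finrank_zero_of_subsingleton] at hU
      omega
    let L : W →ₗ[F] ((tl τ v₀).map (ac g₀ : (ι → F) →ₗ[F] (ι → F)) : Submodule F (ι → F)) :=
      { toFun := fun v => ⟨X₀ (τ a₁ v), hQ₀.apply_mem T _⟩
        map_add' := fun v w => Subtype.ext (by simp)
        map_smul' := fun t v => Subtype.ext (by simp) }
    have hL : LinearMap.ker L ≠ ⊥ := fun h => by
      have := LinearMap.finrank_le_finrank_of_injective (LinearMap.ker_eq_bot.1 h)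
      rw [hQ₀.moved.finrank_eq T] at this
      omega
    obtain ⟨v₁, hv₁, hv₁0⟩ := Submodule.exists_mem_ne_zero_of_ne_bot hL
    have hXv₁ : X₀ (τ a₁ v₁) = 0 := congrArg Subtype.val (LinearMap.mem_ker.1 hv₁)
    have hz₁ : τ a₁ v₁ ≠ 0 := fun e => ha₁ (tau_inj T hv₁0 (e.trans (by simp)))
    obtain ⟨h₀, hh₀, hh₀X⟩ := id hQ₀.mem
    refine ⟨_, v₁, push_line hQ₀ hh₀ hh₀X hv₁0 (tau_mem_tl _ _) hz₁ hXv₁, hv₁0, ?_⟩
    rw [Nat.one_le_iff_ne_zero]
    intro h0
    rw [Submodule.finrank_eq_zero] at h0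
    refine hz₁ ((Submodule.eq_bot_iff _).1 h0 _ ⟨⟨_, tau_mem_tl a₁ v₁, ?_⟩, tau_mem_tl _ _⟩)
    show h₀.val *ᵥ _ = _
    rw [hh₀X, hXv₁, add_zero]
  suffices hstep : ∀ D, 1 ≤ D → P D → P (D + 1) by
    have hall : ∀ D, 1 ≤ D → P D := fun D hD =>
      Nat.le_induction hP1 (fun d hd h => hstep d hd h) D hD
    obtain ⟨S, b, hS, -, hle⟩ := hall (finrank F U + 1) (by omega)
    have := Submodule.finrank_mono (inf_le_left : S ⊓ tl τ b ≤ S)
    rw [hS.finrank_eq T] at this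
    omega
  intro D hD hPD
  by_contra hmax
  have hle : ∀ S b, Moved (τ := τ) G S → b ≠ 0 → finrank F ↥(S ⊓ tl τ b) ≤ D := fun S b hS hb => by
    by_contra h
    exact hmax ⟨S, b, hS, hb, by omega⟩
  obtain ⟨S, b, hS, hb, hd⟩ := hPD
  have hd : finrank F ↥(S ⊓ tl τ b) = D := le_antisymm (hle S b hS hb) hd
  obtain ⟨x, hxS, hxb⟩ := SetLike.not_le_iff_exists.1 (hS.not_le T hb)
  obtain ⟨⟨g, hg, v, hv, rfl⟩, -⟩ := id hS
  -- a vector orthogonal to `b` and to the chosen point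
  obtain ⟨μ, ⟨hbμ, hxμ⟩, hμ0⟩ : ∃ μ, (ω b μ = 0 ∧ T.ctr μ x = 0) ∧ μ ≠ 0 := by
    let L : W →ₗ[F] F × U := (ω b).prod (LinearMap.applyₗ x ∘ₗ T.ctr)
    have hL : LinearMap.ker L ≠ ⊥ := fun h => by
      have := LinearMap.finrank_le_finrank_of_injective (LinearMap.ker_eq_bot.1 h)
      rw [Module.finrank_prod, finrank_self] at this
      omega
    obtain ⟨μ, hμ, hμ0⟩ := Submodule.exists_mem_ne_zero_of_ne_bot hL
    rw [LinearMap.mem_ker] at hμ
    exact ⟨μ, ⟨congrArg Prod.fst hμ, congrArg Prod.snd hμ⟩, hμ0⟩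
  obtain ⟨z, hz, hz0⟩ := Submodule.exists_mem_ne_zero_of_ne_bot
    (p := (tl τ v).map (ac g : (ι → F) →ₗ[F] (ι → F)) ⊓ tl τ b) (fun e => by
      rw [e, finrank_bot] at hd
      omega)
  have hfixb : ∀ M ∈ tl τ b, T.ctr μ M = 0 := by
    rintro _ ⟨a, rfl⟩
    rw [LinearMap.flip_apply, T.ctr_tau, hbμ, zero_smul]
  obtain ⟨z', hz', hgz⟩ := id hz.1
  have hgz' : g.val *ᵥ z' = z := hgz
  have hz'0 : z' ≠ 0 := fun h => hz0 (by rw [← hgz', h, Matrix.mulVec_zero])
  have hmov' : Moved (τ := τ) G ((tl τ μ).map (ac g⁻¹ : (ι → F) →ₗ[F] (ι → F))) := by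
    refine ⟨⟨g⁻¹, G.inv_mem hg, μ, hμ0, rfl⟩, fun c hc e => ?_⟩
    obtain ⟨X, hQ, -⟩ := quad_of_conj T hG hg hv hS
    have hline : ∀ a, ∃ a', g.val *ᵥ τ a c = τ a' μ := fun a => by
      obtain ⟨_, ⟨a', rfl⟩, ha'⟩ := (e ▸ tau_mem_tl a c : τ a c ∈ (tl τ μ).map _)
      refine ⟨a', ?_⟩
      rw [← ha']
      exact act_inv g _
    have hvc : ω v c = 0 := by
      by_contra hne
      obtain ⟨a₁, rfl⟩ := hz'
      have ha : ∀ a, α a₁ a = 0 := fun a => by
        obtain ⟨a', ha'⟩ := hline a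
        have h1 := hG.act _ hg (τ a₁ v) (τ a c)
        rw [ha', show g.val *ᵥ τ a₁ v = z from hgz', ← T.α_ctr, hfixb z hz.2, map_zero,
          LinearMap.zero_apply, T.pair] at h1
        exact (mul_eq_zero.1 h1.symm).resolve_right hne
      refine hz'0 ?_
      rw [T.nα.1 a₁ ha]
      simp
    refine not_hyperplane T hG hk hR hQ hμ0 fun M hM => T.α_ext fun a' => ?_
    obtain ⟨_, ⟨a, rfl⟩, rfl⟩ := hM
    rw [T.α_ctr, map_zero, LinearMap.zero_apply]
    have h1 : (g⁻¹ : GL ι F).val *ᵥ τ a' μ ∈ tl τ c := e ▸ ⟨_, tau_mem_tl a' μ, rfl⟩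
    obtain ⟨a'', ha''⟩ := h1
    rw [LinearMap.flip_apply] at ha''
    show B (g.val *ᵥ τ a v) (τ a' μ) = 0
    rw [← act_inv g (τ a' μ), hG.act _ hg, ← ha'', T.pair, hvc, mul_zero]
  obtain ⟨X, hQ, hXe⟩ := quad_of_conj T hG (G.inv_mem hg) hμ0 hmov'
  have hX0 : ∀ M, T.ctr μ M = 0 → X ((g⁻¹ : GL ι F).val *ᵥ M) = 0 := fun M hM => by
    rw [hXe, hM]
    simp
  obtain ⟨h, hh, hhX⟩ := id hQ.mem
  have hXz : X z' = 0 := by
    have := hX0 z (hfixb z hz.2)
    rwa [← hgz', inv_act] at this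
  have hmov'' := push_line hQ hh hhX hv hz' hz'0 hXz
  have hlt : ((tl τ v).map (ac g : (ι → F) →ₗ[F] (ι → F)) ⊓ tl τ b).map
      (ac g⁻¹ : (ι → F) →ₗ[F] (ι → F)) <
      (tl τ v).map (ac h : (ι → F) →ₗ[F] (ι → F)) ⊓ tl τ v := by
    refine lt_of_le_of_ne ?_ fun e => hxb ?_
    · rintro _ ⟨M, ⟨⟨N, hN, rfl⟩, hMb⟩, rfl⟩
      have hN' : (g⁻¹ : GL ι F).val *ᵥ (g.val *ᵥ N) = N := inv_act g N
      refine ⟨⟨N, hN, ?_⟩, ?_⟩
      · show h.val *ᵥ N = (g⁻¹ : GL ι F).val *ᵥ (g.val *ᵥ N)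
        rw [hN', hhX]
        have := hX0 (g.val *ᵥ N) (hfixb _ hMb)
        rw [hN'] at this
        rw [this, add_zero]
      · show (g⁻¹ : GL ι F).val *ᵥ (g.val *ᵥ N) ∈ tl τ v
        rwa [hN']
    · obtain ⟨N, hN, rfl⟩ := hxS
      have hXN : X N = 0 := by
        have h1 := hX0 (g.val *ᵥ N) hxμ
        rwa [inv_act] at h1
      have hN' : N ∈ (tl τ v).map (ac h : (ι → F) →ₗ[F] (ι → F)) ⊓ tl τ v :=
        ⟨⟨N, hN, by show h.val *ᵥ N = N; rw [hhX, hXN, add_zero]⟩, hN⟩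
      rw [← e] at hN'
      obtain ⟨M, hM, hMN⟩ := hN'
      have : M = g.val *ᵥ N := by rw [← hMN]; exact (act_inv g M).symm
      show g.val *ᵥ N ∈ tl τ b
      rw [← this]
      exact hM.2
  have h1 := Submodule.finrank_lt_finrank_of_lt hlt
  rw [LinearEquiv.finrank_map_eq, hd] at h1
  exact absurd (hle _ v hmov'' hv) (by omega)

end Cfsg.Lib.Linear.SpTensor
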