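import Cfsg.Agent.Lib.Linear.SpTensor.Gen
import Cfsg.Agent.Lib.Linear.TensorLine.Main

/-!
# The stabiliser of a product of two symplectic spaces is maximal in the orthogonal group

For two factors of different dimensions, the pure vectors being singular.
-/

set_option autoImplicit false
set_option linter.unusedSectionVars false

namespace Cfsg.Lib.Linear.SpTensor

open Module
open scoped Matrix Kronecker
open Cfsg.Lib.Linear.Orth
open Cfsg.Lib.Linear.AschGen (tensMat mem_tensorProductSubgroup_iff)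
open Cfsg.Lib.Linear.TensorLine (coords act act_apply act_tensMat det_tensMat exists_pair rline)

variable {n m k : ℕ} {F : Type*} [Field F] (e : Fin n ≃ Fin m × Fin k) (P : GL (Fin n) F)

/-- The pure vectors. -/
noncomputable def tensor : (Fin m → F) →ₗ[F] (Fin k → F) →ₗ[F] (Fin n → F) :=
  LinearMap.mk₂ F (fun a x => (coords e P).symm (Matrix.vecMulVec a x))
    (fun a a' x => by rw [Matrix.add_vecMulVec, map_add])
    (fun c a x => by rw [Matrix.smul_vecMulVec, map_smul])
    (fun a x x' => by rw [Matrix.vecMulVec_add, map_add])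
    (fun c a x => by rw [Matrix.vecMulVec_smul, map_smul])

theorem tensor_apply (a : Fin m → F) (x : Fin k → F) :
    tensor e P a x = (coords e P).symm (Matrix.vecMulVec a x) := rfl

theorem span_tensor :
    Submodule.span F (Set.range fun p : (Fin m → F) × (Fin k → F) => tensor e P p.1 p.2) = ⊤ := by
  classical
  refine eq_top_iff.2 fun v _ => ?_
  rw [← (coords e P).symm_apply_apply v, Matrix.matrix_eq_sum_single (coords e P v)]
  simp only [map_sum]
  refine Submodule.sum_mem _ fun i _ => Submodule.sum_mem _ fun j _ => ?_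
  refine Submodule.subset_span ⟨(Pi.single i (coords e P v i j), Pi.single j 1), ?_⟩
  show (coords e P).symm _ = (coords e P).symm _
  congr 1
  ext a b
  simp [Matrix.vecMulVec_apply, Matrix.single_apply, Pi.single_apply, ite_and, eq_comm]
  split_ifs <;> simp_all

theorem tensMat_tensor {g : GL (Fin n) F} {p : Matrix (Fin m) (Fin m) F}
    {q : Matrix (Fin k) (Fin k) F} (hg : g.val = tensMat e P p q) (a : Fin m → F) (x : Fin k → F) :
    g.val *ᵥ tensor e P a x = tensor e P (p *ᵥ a) (q *ᵥ x) := by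
  have h := act_tensMat e P hg (Matrix.vecMulVec a x)
  rw [act_apply] at h
  rw [tensor_apply, tensor_apply, LinearEquiv.eq_symm_apply, h, Matrix.mul_vecMulVec,
    Matrix.vecMulVec_mul, Matrix.vecMul_transpose]

/-- An element acting on pure vectors factorwise stabilises the decomposition. -/
theorem mem_of_tensor {g : GL (Fin n) F} (p : Matrix (Fin m) (Fin m) F)
    (q : Matrix (Fin k) (Fin k) F) (hp : p.det ≠ 0) (hq : q.det ≠ 0)
    (h : ∀ a x, g.val *ᵥ tensor e P a x = tensor e P (p *ᵥ a) (q *ᵥ x)) :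
    g ∈ Cfsg.Geo.tensorProductSubgroup m k e P := by
  classical
  let y := Matrix.GeneralLinearGroup.mkOfDetNeZero (tensMat e P p q)
    (by rw [det_tensMat]; exact mul_ne_zero (pow_ne_zero _ hp) (pow_ne_zero _ hq))
  have hlin : Matrix.mulVecLin g.val = Matrix.mulVecLin y.val :=
    LinearMap.ext_on (span_tensor e P) (by
      rintro _ ⟨⟨a, x⟩, rfl⟩
      simp only [Matrix.mulVecLin_apply, h, tensMat_tensor e P (g := y) rfl])
  refine mem_tensorProductSubgroup_iff.2 ⟨Matrix.GeneralLinearGroup.mkOfDetNeZero p hp,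
    Matrix.GeneralLinearGroup.mkOfDetNeZero q hq, ?_⟩
  exact mat_ext fun v => LinearMap.congr_fun hlin v

/-- The matrix of a transvection. -/
theorem exists_transv {κ : Type} [Fintype κ] [DecidableEq κ] (ω : LinearMap.BilinForm F (κ → F))
    (hω : ω.IsAlt) (z : κ → F) (c : F) :
    ∃ q : Matrix κ κ F, q.det ≠ 0 ∧ ∀ x, q *ᵥ x = x + (c * ω x z) • z := by
  let R : F → ((κ → F) →ₗ[F] (κ → F)) := fun c => LinearMap.id + (c • ω.flip z).smulRight z
  have hR : ∀ c x, R c x = x + (c * ω x z) • z := fun c x => by simp [R]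
  refine ⟨LinearMap.toMatrix' (R c), ?_, fun x => by rw [LinearMap.toMatrix'_mulVec, hR]⟩
  have h : LinearMap.toMatrix' (R c) * LinearMap.toMatrix' (R (-c)) = 1 := by
    rw [← LinearMap.toMatrix'_comp, ← LinearMap.toMatrix'_id]
    congr 1
    refine LinearMap.ext fun x => ?_
    simp only [LinearMap.comp_apply, hR, map_add, map_smul, LinearMap.id_apply]
    simp [LinearMap.BilinForm.IsAlt.self_eq_zero hω z]
  intro h0
  have := congrArg Matrix.det h
  rw [Matrix.det_mul, h0, zero_mul, Matrix.det_one] at this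
  exact zero_ne_one this

theorem bilin_eq_sum {κ : Type} [Fintype κ] [DecidableEq κ] (β : LinearMap.BilinForm F (κ → F))
    (a b : κ → F) : β a b = ∑ i, ∑ j, a i * β (Pi.single i 1) (Pi.single j 1) * b j := by
  conv_lhs => rw [pi_eq_sum_univ' a, pi_eq_sum_univ' b]
  simp only [map_sum, LinearMap.sum_apply, map_smul, LinearMap.smul_apply, smul_eq_mul]
  simp only [Finset.mul_sum]
  rw [Finset.sum_comm]
  exact Finset.sum_congr rfl fun i _ => Finset.sum_congr rfl fun j _ => by ring

/-- The stabiliser is maximal. -/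
theorem maximal [Fintype F] {Q : (Fin n → F) → F} (hQ : Cfsg.Geo.IsNondegenerateQuadraticForm Q)
    {f₁ : (Fin m → F) → (Fin m → F) → F} {f₂ : (Fin k → F) → (Fin k → F) → F}
    (hf₁ : Cfsg.Geo.IsSymplecticForm f₁) (hf₂ : Cfsg.Geo.IsSymplecticForm f₂)
    (hT : Cfsg.Geo.IsTensorFormStructure id (QuadraticMap.polar Q) f₁ f₂ e P)
    (hpure : ∀ a x, Q (tensor e P a x) = 0) (hk : 6 ≤ k) (hmk : m + 2 ≤ k)
    (hex : (m = 2 ∧ 3 ≤ Fintype.card F) ∨ 4 ≤ m) :
    Cfsg.Geo.IsMaximalIn (Cfsg.Geo.omegaGL Q)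
      (Cfsg.Geo.tensorProductSubgroup m k e P ⊓ Cfsg.Geo.omegaGL Q) := by
  classical
  obtain ⟨B, C⟩ := exists_space hQ
  obtain ⟨c, hc0, hc⟩ := hT
  have hm : 2 ≤ m := by omega
  have hn : n = m * k := by simpa using Fintype.card_congr e
  have h5 : 5 ≤ Fintype.card (Fin n) := by
    have h6 := Nat.mul_le_mul hm hk
    rw [Fintype.card_fin, hn]
    omega
  let α₁ : LinearMap.BilinForm F (Fin m → F) := LinearMap.mk₂ F f₁ hf₁.bilinear.add_left
    hf₁.bilinear.smul_left hf₁.bilinear.add_right hf₁.bilinear.smul_right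
  let ω : LinearMap.BilinForm F (Fin k → F) := LinearMap.mk₂ F f₂ hf₂.bilinear.add_left
    hf₂.bilinear.smul_left hf₂.bilinear.add_right hf₂.bilinear.smul_right
  have nd : ∀ {κ : Type} [Fintype κ] [DecidableEq κ] (β : LinearMap.BilinForm F (κ → F)),
      β.IsAlt → (∀ v, v ≠ 0 → ∃ x, β v x ≠ 0) → β.Nondegenerate := by
    intro κ _ _ β hβ hv
    have hl : ∀ v, (∀ x, β v x = 0) → v = 0 := fun v h => by
      by_contra hne
      obtain ⟨x, hx⟩ := hv v hne
      exact hx (h x)
    refine ⟨hl, fun v h => hl v fun x => ?_⟩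
    have h1 := hβ.self_eq_zero (x + v)
    simp only [map_add, LinearMap.add_apply, hβ.self_eq_zero, h x] at h1
    simpa using h1
  have hα : (c • α₁).IsAlt := fun v => by
    show c * f₁ v v = 0
    rw [hf₁.alternating, mul_zero]
  have hω : ω.IsAlt := fun v => hf₂.alternating v
  have hT' : Ten Q B (c • α₁) ω (tensor e P) := by
    refine ⟨C, nd _ hα fun v hv => ?_, hα, nd _ hω fun v hv => ?_, hω, fun a x b y => ?_,
      fun a x => hpure a x, span_tensor e P⟩
    · obtain ⟨x, hx⟩ := (hf₁.nondegenerate v hv).2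
      exact ⟨x, mul_ne_zero hc0 hx⟩
    · exact (hf₂.nondegenerate v hv).2
    rw [← C.polar]
    show QuadraticMap.polar Q
      ((P : Matrix (Fin n) (Fin n) F) *ᵥ ((fun p : Fin m × Fin k => a p.1 * x p.2) ∘ e))
      ((P : Matrix (Fin n) (Fin n) F) *ᵥ ((fun p : Fin m × Fin k => b p.1 * y p.2) ∘ e)) = _
    rw [hc, LinearMap.smul_apply, LinearMap.smul_apply, smul_eq_mul, bilin_eq_sum α₁, bilin_eq_sum ω,
      mul_assoc]
    congr 1
    simp only [Cfsg.Geo.formOfGram, Fintype.sum_prod_type, Finset.sum_mul, Finset.mul_sum, id_eq,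
      Matrix.kroneckerMap_apply, Cfsg.Geo.gramMatrix]
    rw [Finset.sum_comm]
    refine Finset.sum_congr rfl fun p _ => ?_
    refine Eq.trans (Finset.sum_congr rfl fun i _ => Finset.sum_comm) ?_
    rw [Finset.sum_comm]
    refine Finset.sum_congr rfl fun q _ => Finset.sum_congr rfl fun i _ =>
      Finset.sum_congr rfl fun j _ => ?_
    simp only [α₁, ω, LinearMap.mk₂_apply]
    ring
  set T₀ := Cfsg.Geo.tensorProductSubgroup m k e P
  have hΩ : Cfsg.Geo.omegaGL Q = Root Q B ⊤ := omegaGL_eq C h5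
  -- the transvections of both factors
  have hOver : Over hT' (T₀ ⊓ Cfsg.Geo.omegaGL Q) := by
    refine ⟨inf_le_right.trans (hΩ ▸ root_le_iso C ⊤), fun z r => ?_, fun u r => ?_⟩
    · obtain ⟨g, hg, hgv⟩ := long_mem_root hT' z r
      obtain ⟨q, hq, hqx⟩ := exists_transv ω hω z r
      refine ⟨g, ⟨mem_of_tensor e P 1 q (by simp) hq fun a x => ?_, hΩ ▸ hg⟩, hgv⟩
      rw [hgv, LinearMap.smul_apply, hT'.lin_apply, hT'.ctr_tau, LinearMap.id_apply,
        Matrix.one_mulVec, hqx]
      simp only [map_add, map_smul, LinearMap.smul_apply, smul_smul]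
    · obtain ⟨g, hg, hgv⟩ := long_mem_root hT'.swap u r
      obtain ⟨p, hp, hpx⟩ := exists_transv (c • α₁) hα u r
      refine ⟨g, ⟨mem_of_tensor e P p 1 hp (by simp) fun a x => ?_, hΩ ▸ hg⟩, hgv⟩
      rw [hgv, LinearMap.smul_apply, hT'.swap.lin_apply,
        show tensor e P a x = (tensor e P).flip x a from rfl, hT'.swap.ctr_tau, LinearMap.id_apply,
        Matrix.one_mulVec, hpx]
      simp [smul_smul, mul_assoc]
  refine ⟨lt_of_le_of_ne inf_le_right fun h => ?_, fun L hL hLΩ => ?_⟩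
  · -- a Siegel element outside the stabiliser
    let a₁ : Fin m → F := Pi.single ⟨0, by omega⟩ 1
    obtain ⟨x, hx⟩ : ∃ x : Fin k → F, x ≠ 0 :=
      ⟨Pi.single ⟨0, by omega⟩ 1, fun h0 => by simpa using congrFun h0 ⟨0, by omega⟩⟩
    have ha₁ : a₁ ≠ 0 := fun h0 => by simpa [a₁] using congrFun h0 ⟨0, by omega⟩
    obtain ⟨y, hy, hy1, -⟩ := Ten.exists_avoid (ω := ω) ![x] (Submodule.span F {x}) ⊥
      (by rw [finrank_span_singleton hx, finrank_fin_fun]; omega)
      (by rw [finrank_fin_fun]; simp; omega)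
    have hyx : ω y x = 0 := hy 0
    have hxy : ω x y = 0 := by rw [hT'.ω_symm, hyx, neg_zero]
    have hy0 : y ≠ 0 := fun h0 => hy1 (h0 ▸ Submodule.zero_mem _)
    have hx1 : x ∉ Submodule.span F {y} := fun hm => by
      obtain ⟨t, rfl⟩ := Submodule.mem_span_singleton.1 hm
      exact hy1 (Submodule.mem_span_singleton.2 ⟨t⁻¹, by
        rw [smul_smul, inv_mul_cancel₀ (fun e => hx (by rw [e, zero_smul])), one_smul]⟩)
    obtain ⟨z, hz', hz⟩ := hT'.exists_dual _ hx1
    have hyz := hz' y (Submodule.mem_span_singleton_self y)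
    have hzy1 : z ∉ Submodule.span F {y} := fun hm => by
      obtain ⟨t, rfl⟩ := Submodule.mem_span_singleton.1 hm
      simp [hxy] at hz
    have hyz1 : y ∉ Submodule.span F {z} := fun hm => by
      obtain ⟨t, rfl⟩ := Submodule.mem_span_singleton.1 hm
      exact hzy1 (Submodule.mem_span_singleton.2 ⟨t⁻¹, by
        rw [smul_smul, inv_mul_cancel₀ (fun e => hy0 (by rw [e, zero_smul])), one_smul]⟩)
    obtain ⟨s, hs', hs⟩ := hT'.exists_dual _ hzy1
    obtain ⟨t, ht', ht⟩ := hT'.exists_dual _ hyz1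
    obtain ⟨a₂, ha₂⟩ := hT'.swap.exists_nonorth ha₁
    have hu := hT'.sing a₁ x
    have hB : B (tensor e P a₁ x) (tensor e P a₁ y) = 0 := by rw [hT'.pair, hxy, mul_zero]
    have hg : sGL Q B (tensor e P a₁ x) (tensor e P a₁ y) ∈ T₀ ⊓ Cfsg.Geo.omegaGL Q :=
      h.symm ▸ hΩ ▸ sGL_mem_root trivial trivial hu hB
    obtain ⟨A, D, hAD⟩ := mem_tensorProductSubgroup_iff.1 hg.1
    -- the image of a pure vector is not pure
    have h2 : tensor e P (A.val *ᵥ a₂) (D.val *ᵥ z) = tensor e P a₂ z + tensor e P a₁ y := by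
      rw [← tensMat_tensor e P hAD, sGL_act C hu hB, hT'.sing, hT'.pair, hT'.pair, ha₂, hz, hyz]
      simp
    have e1 := congrArg (hT'.ctr s) h2
    have e2 := congrArg (hT'.ctr t) h2
    simp only [map_add, hT'.ctr_tau, hs, ht, hs' y (Submodule.mem_span_singleton_self y),
      ht' z (Submodule.mem_span_singleton_self z), one_smul, zero_smul, add_zero, zero_add] at e1 e2
    have e3 := congrArg₂ (fun u v => (c • α₁) u v) e2 e1
    simp only [LinearMap.map_smul₂, map_smul (((c • α₁) : LinearMap.BilinForm F (Fin m → F)) _),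
      hT'.α_self, smul_zero, ha₂] at e3
    exact zero_ne_one e3
  by_cases hLT : L ≤ T₀
  · exact Or.inl (le_antisymm (le_inf hLT hLΩ) hL)
  refine Or.inr (le_antisymm hLΩ ?_)
  obtain ⟨g, hg, hgT⟩ := SetLike.not_le_iff_exists.1 hLT
  have hLiso : L ≤ isometryGroup F Q := hLΩ.trans (hΩ ▸ root_le_iso C ⊤)
  have hG : Over hT' L := by
    refine ⟨hLiso, fun z r => ?_, fun u r => ?_⟩
    · obtain ⟨x, hx, hxv⟩ := hOver.right z r
      exact ⟨x, hL hx, hxv⟩
    · obtain ⟨x, hx, hxv⟩ := hOver.left u r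
      exact ⟨x, hL hx, hxv⟩
  have hmov : ∃ S, Moved (τ := tensor e P) L S := by
    by_contra hc
    push Not at hc
    obtain ⟨p, q, hp, hq, hpq⟩ := exists_pair (g := act e P g) (by omega) fun v hv => by
      have := hc ((tl (tensor e P) v).map (ac g : (Fin n → F) →ₗ[F] (Fin n → F)))
      simp only [Moved, not_and, not_forall, Classical.not_not] at this
      obtain ⟨b, hb, hb'⟩ := this ⟨g, hg, v, hv, rfl⟩
      refine ⟨b, hb, Submodule.ext fun M => ?_⟩
      constructor
      · rintro ⟨_, ⟨a, rfl⟩, rfl⟩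
        obtain ⟨a', ha'⟩ : (g.val *ᵥ tensor e P a v) ∈ tl (tensor e P) b :=
          hb' ▸ ⟨_, tau_mem_tl a v, rfl⟩
        refine ⟨a', ?_⟩
        show act e P g _ = _
        rw [act_apply, ← tensor_apply, ← ha', LinearMap.flip_apply, tensor_apply,
          LinearEquiv.apply_symm_apply]
      · rintro ⟨a', rfl⟩
        obtain ⟨_, ⟨a, rfl⟩, ha⟩ : tensor e P a' b ∈
            (tl (tensor e P) v).map (ac g : (Fin n → F) →ₗ[F] (Fin n → F)) := hb'.symm ▸ tau_mem_tl a' b
        refine ⟨Matrix.vecMulVec a v, ⟨a, rfl⟩, ?_⟩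
        show act e P g _ = _
        rw [act_apply, ← tensor_apply]
        have ha' : g.val *ᵥ tensor e P a v = tensor e P a' b := ha
        rw [ha', tensor_apply, LinearEquiv.apply_symm_apply]
    refine hgT (mem_of_tensor e P p q.transpose hp (by rwa [Matrix.det_transpose]) fun a x => ?_)
    have h1 := hpq (Matrix.vecMulVec a x)
    rw [act_apply, ← tensor_apply] at h1
    rw [← (coords e P).symm_apply_apply (g.val *ᵥ tensor e P a x), h1, tensor_apply,
      Matrix.mul_vecMulVec, Matrix.vecMulVec_mul, Matrix.mulVec_transpose]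
  have hk' : 6 ≤ finrank F (Fin k → F) := by rw [finrank_fin_fun]; exact hk
  have hU : finrank F (Fin m → F) = m := finrank_fin_fun F
  have hmk' : finrank F (Fin m → F) + 2 ≤ finrank F (Fin k → F) := by
    rw [finrank_fin_fun, finrank_fin_fun]; exact hmk
  obtain ⟨φ, hφ, hns⟩ := rich hT' hG.toR hk' hmk' (by rw [hU]; omega) hmov
  have htop : goodAlg hT' hG.toR hk' = ⊤ := eq_top_of_conj hT' _
    (fun ψ hψ u r => goodAlg_conj hT' hG hk' hψ u r)
    (by rw [hU, Nat.card_eq_fintype_card]; exact hex) (φ := φ) hφ fun t e' => hns t e'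
  rw [hΩ]
  exact root_le_of_all hT' hG.le hk' (by rw [hU]; omega) fun ψ => by
    have h : ψ ∈ goodAlg hT' hG.toR hk' := htop ▸ Algebra.mem_top
    exact h

end Cfsg.Lib.Linear.SpTensor
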