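import Cfsg.Agent.Lib.Linear.OrthTrans

/-!
# A space decomposed as a product of two symplectic spaces

The contraction against a vector of the second factor and the elementary maps it gives.
-/

set_option autoImplicit false
set_option linter.unusedSectionVars false

namespace Cfsg.Lib.Linear.SpTensor

open Module
open scoped Matrix
open Cfsg.Lib.Linear.Orth

variable {ι : Type} [Fintype ι] [DecidableEq ι] {F U W : Type*} [Field F]
  [AddCommGroup U] [Module F U] [FiniteDimensional F U]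
  [AddCommGroup W] [Module F W] [FiniteDimensional F W]
  {Q : (ι → F) → F} {B : LinearMap.BilinForm F (ι → F)}
  {α : LinearMap.BilinForm F U} {ω : LinearMap.BilinForm F W} {τ : U →ₗ[F] W →ₗ[F] (ι → F)}

local notation "𝕍" => (ι → F)

/-- The space is the product of two symplectic spaces, the pure vectors being singular. -/
structure Ten (Q : 𝕍 → F) (B : LinearMap.BilinForm F 𝕍) (α : LinearMap.BilinForm F U)
    (ω : LinearMap.BilinForm F W) (τ : U →ₗ[F] W →ₗ[F] (ι → F)) : Prop where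
  space : Space Q B
  nα : α.Nondegenerate
  aα : α.IsAlt
  nω : ω.Nondegenerate
  aω : ω.IsAlt
  pair : ∀ a x b y, B (τ a x) (τ b y) = α a b * ω x y
  sing : ∀ a x, Q (τ a x) = 0
  span : Submodule.span F (Set.range fun p : U × W => τ p.1 p.2) = ⊤

namespace Ten

/-- A vector orthogonal to a short list outside two small subspaces. -/
theorem exists_avoid {j : ℕ} (z : Fin j → W) (P₁ P₂ : Submodule F W)
    (h1 : j + finrank F P₁ < finrank F W) (h2 : j + finrank F P₂ < finrank F W) :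
    ∃ w : W, (∀ i, ω w (z i) = 0) ∧ w ∉ P₁ ∧ w ∉ P₂ := by
  set L : W →ₗ[F] (Fin j → F) := LinearMap.pi fun i => ω.flip (z i)
  have hker : finrank F W ≤ j + finrank F (LinearMap.ker L) := by
    have := L.finrank_range_add_finrank_ker
    have h3 := Submodule.finrank_le (LinearMap.range L)
    rw [finrank_fin_fun] at h3
    omega
  have hex : ∀ P : Submodule F W, j + finrank F P < finrank F W →
      ∃ w ∈ LinearMap.ker L, w ∉ P := fun P hP =>
    SetLike.not_le_iff_exists.1 fun hle => by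
      have := Submodule.finrank_mono hle
      omega
  have hz : ∀ w ∈ LinearMap.ker L, ∀ i, ω w (z i) = 0 := fun w hw i =>
    congrFun (LinearMap.mem_ker.1 hw) i
  obtain ⟨w₁, hw₁, hn₁⟩ := hex P₁ h1
  obtain ⟨w₂, hw₂, hn₂⟩ := hex P₂ h2
  by_cases h12 : w₁ ∈ P₂
  · by_cases h21 : w₂ ∈ P₁
    · refine ⟨w₁ + w₂, hz _ (add_mem hw₁ hw₂), fun h => hn₁ ?_, fun h => hn₂ ?_⟩
      · simpa using sub_mem h h21
      · simpa using sub_mem h h12
    · exact ⟨w₂, hz _ hw₂, h21, hn₂⟩
  · exact ⟨w₁, hz _ hw₁, hn₁, h12⟩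

theorem finrank_pair_le (x y : W) : finrank F (Submodule.span F ({x, y} : Set W)) ≤ 2 := by
  classical
  have := finrank_span_finset_le_card (R := F) ({x, y} : Finset W)
  rw [show (({x, y} : Finset W) : Set W) = {x, y} by simp] at this
  exact this.trans Finset.card_le_two

/-- The rank one map of two vectors. -/
noncomputable def rk (a b : U) : U →ₗ[F] U := (α.flip b).smulRight a

theorem rk_apply (a b c : U) : rk (α := α) a b c = α c b • a := rfl

variable (T : Ten Q B α ω τ)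
include T

theorem swap : Ten Q B ω α τ.flip :=
  ⟨T.space, T.nω, T.aω, T.nα, T.aα,
    fun a x b y => by simp only [LinearMap.flip_apply, T.pair, mul_comm],
    fun a x => T.sing x a, eq_top_iff.2 <| T.span ▸ Submodule.span_le.2 (by
      rintro _ ⟨⟨a, x⟩, rfl⟩
      exact Submodule.subset_span ⟨(x, a), rfl⟩)⟩

theorem α_symm (a b : U) : α a b = -α b a := by
  have h := T.aα.self_eq_zero (a + b)
  simp only [map_add, LinearMap.add_apply, T.aα.self_eq_zero] at h
  linear_combination h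

theorem ω_symm (x y : W) : ω x y = -ω y x := by
  have h := T.aω.self_eq_zero (x + y)
  simp only [map_add, LinearMap.add_apply, T.aω.self_eq_zero] at h
  linear_combination h

theorem ω_self (x : W) : ω x x = 0 := T.aω.self_eq_zero x

theorem α_self (a : U) : α a a = 0 := T.aα.self_eq_zero a

/-- The contraction against a vector of the second factor. -/
noncomputable def ctr : W →ₗ[F] 𝕍 →ₗ[F] U :=
  LinearMap.mk₂ F (fun x v => (α.toDual T.nα).symm ((B v) ∘ₗ τ.flip x))
    (fun x x' v => by rw [← map_add]; congr 1; ext c; simp)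
    (fun t x v => by rw [← map_smul]; congr 1; ext c; simp)
    (fun x v v' => by rw [← map_add]; congr 1; ext c; simp)
    (fun t x v => by rw [← map_smul]; congr 1; ext c; simp)

theorem α_ctr (x : W) (v : 𝕍) (c : U) : α (T.ctr x v) c = B v (τ c x) := by
  simp [ctr, LinearMap.BilinForm.apply_toDual_symm_apply]

theorem α_ext {a b : U} (h : ∀ c, α a c = α b c) : a = b := by
  refine sub_eq_zero.1 (T.nα.1 _ fun c => ?_)
  rw [map_sub, LinearMap.sub_apply, h, sub_self]

theorem ctr_tau (z : W) (a : U) (x : W) : T.ctr z (τ a x) = ω x z • a := by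
  refine T.α_ext fun c => ?_
  rw [T.α_ctr, T.pair, map_smul, LinearMap.smul_apply, smul_eq_mul, mul_comm]

theorem hom_ext {X : Type*} [AddCommGroup X] [Module F X] {f g : 𝕍 →ₗ[F] X}
    (h : ∀ a x, f (τ a x) = g (τ a x)) : f = g :=
  LinearMap.ext_on T.span (by rintro _ ⟨p, rfl⟩; exact h p.1 p.2)

theorem eq_zero {v : 𝕍} (h : ∀ z, T.ctr z v = 0) : v = 0 := by
  refine T.space.nondeg' fun u => ?_
  have e : B v = 0 := T.hom_ext (f := B v) (g := 0) fun a x => by
    rw [← T.α_ctr, h, map_zero, LinearMap.zero_apply, LinearMap.zero_apply]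
  rw [e, LinearMap.zero_apply]

/-- `v ↦ φ(contraction against y) ⊗ x`. -/
noncomputable def lin (x y : W) (φ : U →ₗ[F] U) : 𝕍 →ₗ[F] 𝕍 := τ.flip x ∘ₗ φ ∘ₗ T.ctr y

theorem lin_apply (x y : W) (φ : U →ₗ[F] U) (v : 𝕍) : T.lin x y φ v = τ (φ (T.ctr y v)) x := rfl

theorem lin_lin (x y x' y' : W) (φ ψ : U →ₗ[F] U) (v : 𝕍) :
    T.lin x y φ (T.lin x' y' ψ v) = ω x' y • T.lin x y' (φ ∘ₗ ψ) v := by
  simp [lin_apply, T.ctr_tau]

/-- The adjoint for the form of the first factor. -/
noncomputable def adj (φ : U →ₗ[F] U) : U →ₗ[F] U :=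
  (α.toDual T.nα).symm.toLinearMap ∘ₗ φ.dualMap ∘ₗ (α.toDual T.nα).toLinearMap

theorem α_adj (φ : U →ₗ[F] U) (a b : U) : α (T.adj φ a) b = α a (φ b) := by
  simp [adj, LinearMap.BilinForm.apply_toDual_symm_apply, LinearMap.BilinForm.toDual_def]

theorem α_adj' (φ : U →ₗ[F] U) (a b : U) : α a (T.adj φ b) = α (φ a) b := by
  rw [T.α_symm, T.α_adj, ← T.α_symm]

theorem adj_adj (φ : U →ₗ[F] U) : T.adj (T.adj φ) = φ :=
  LinearMap.ext fun a => T.α_ext fun c => by rw [T.α_adj, T.α_adj']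

theorem adj_one : T.adj LinearMap.id = LinearMap.id :=
  LinearMap.ext fun a => T.α_ext fun c => by rw [T.α_adj]; rfl

theorem adj_add (φ ψ : U →ₗ[F] U) : T.adj (φ + ψ) = T.adj φ + T.adj ψ :=
  LinearMap.ext fun a => T.α_ext fun c => by simp [T.α_adj]

theorem adj_smul (t : F) (φ : U →ₗ[F] U) : T.adj (t • φ) = t • T.adj φ :=
  LinearMap.ext fun a => T.α_ext fun c => by simp [T.α_adj]

theorem adj_zero : T.adj (0 : U →ₗ[F] U) = 0 :=
  LinearMap.ext fun a => T.α_ext fun c => by simp [T.α_adj]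

theorem adj_comp (φ ψ : U →ₗ[F] U) : T.adj (φ ∘ₗ ψ) = T.adj ψ ∘ₗ T.adj φ :=
  LinearMap.ext fun a => T.α_ext fun c => by simp [T.α_adj]

theorem adj_rk (a b : U) : T.adj (rk (α := α) a b) = -rk (α := α) b a :=
  LinearMap.ext fun c => T.α_ext fun d => by
    simp only [T.α_adj, rk_apply, map_smul, map_neg, LinearMap.neg_apply, LinearMap.smul_apply,
      smul_eq_mul]
    rw [T.α_symm b d]
    ring

/-- The short map of two vectors of the second factor. -/
noncomputable def sh (x y : W) (φ : U →ₗ[F] U) : 𝕍 →ₗ[F] 𝕍 :=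
  T.lin x y φ + T.lin y x (T.adj φ)

theorem sh_comm (x y : W) (φ : U →ₗ[F] U) : T.sh x y φ = T.sh y x (T.adj φ) := by
  rw [sh, sh, T.adj_adj, add_comm]

/-- The Siegel map of two pure vectors is short. -/
theorem siegel_eq (a b : U) (x y : W) (v : 𝕍) :
    B (τ a x) v • τ b y - B (τ b y) v • τ a x = T.sh x y (-rk (α := α) a b) v := by
  have e : ∀ (c : U) (z : W), B (τ c z) v = α (T.ctr z v) c := fun c z => by
    rw [T.space.symm, T.α_ctr]
  simp only [sh, LinearMap.add_apply, lin_apply]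
  rw [show T.adj (-rk (α := α) a b) = rk (α := α) b a by
    rw [← neg_one_smul F, T.adj_smul, T.adj_rk, smul_neg, neg_one_smul, neg_neg]]
  simp only [LinearMap.neg_apply, rk_apply, map_neg, map_smul, LinearMap.neg_apply,
    LinearMap.smul_apply, e]
  abel

/-- A vector of the second factor with given pairings. -/
theorem exists_dual (P : Submodule F W) {x : W} (hx : x ∉ P) :
    ∃ y : W, (∀ p ∈ P, ω p y = 0) ∧ ω x y = 1 := by
  obtain ⟨f, hf, hfP⟩ := Submodule.exists_dual_map_eq_bot_of_notMem hx inferInstance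
  refine ⟨-((ω.toDual T.nω).symm ((f x)⁻¹ • f)), fun p hp => ?_, ?_⟩
  · have : f p ∈ P.map f := ⟨p, hp, rfl⟩
    rw [hfP, Submodule.mem_bot] at this
    rw [map_neg, T.ω_symm, LinearMap.BilinForm.apply_toDual_symm_apply]
    simp [this]
  · rw [map_neg, T.ω_symm, LinearMap.BilinForm.apply_toDual_symm_apply]
    simp [inv_mul_cancel₀ hf]

theorem exists_nonorth {x : W} (hx : x ≠ 0) : ∃ y : W, ω x y = 1 := by
  obtain ⟨y, -, hy⟩ := T.exists_dual ⊥ (x := x) (by simpa using hx)
  exact ⟨y, hy⟩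

end Ten

/-! ## Maps whose translates lie in a group -/

/-- `1 + f` lies in the group. -/
def InA (G : Subgroup (GL ι F)) (f : (ι → F) →ₗ[F] (ι → F)) : Prop := ∃ g ∈ G, ∀ v, g.val *ᵥ v = v + f v

variable {G : Subgroup (GL ι F)} {f h c : (ι → F) →ₗ[F] (ι → F)}

theorem InA.congr (hf : InA G f) (e : ∀ v, f v = c v) : InA G c := by
  obtain ⟨g, hg, hgf⟩ := hf
  exact ⟨g, hg, fun v => by rw [hgf, e]⟩

theorem InA.zero : InA G (0 : (ι → F) →ₗ[F] (ι → F)) := ⟨1, G.one_mem, fun v => by simp⟩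

theorem InA.add (hf : InA G f) (hh : InA G h) (e : ∀ v, f (h v) = 0) : InA G (f + h) := by
  obtain ⟨g, hg, hgf⟩ := hf
  obtain ⟨g', hg', hgh⟩ := hh
  refine ⟨g * g', G.mul_mem hg hg', fun v => ?_⟩
  rw [mul_act, hgh, hgf, map_add, e, LinearMap.add_apply]
  abel

theorem InA.neg (hf : InA G f) (e : ∀ v, f (f v) = 0) : InA G (-f) := by
  obtain ⟨g, hg, hgf⟩ := hf
  refine ⟨g⁻¹, G.inv_mem hg, fun v => ?_⟩
  have h1 : g.val *ᵥ (v + (-f) v) = v := by
    rw [hgf, LinearMap.neg_apply, map_add, map_neg, e]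
    abel
  conv_lhs => rw [← h1]
  rw [inv_act]

theorem InA.conj (hf : InA G f) {g : GL ι F} (hg : g ∈ G)
    (e : ∀ v, c (g.val *ᵥ v) = g.val *ᵥ f v) : InA G c := by
  obtain ⟨g', hg', hgf⟩ := hf
  refine ⟨g * g' * g⁻¹, G.mul_mem (G.mul_mem hg hg') (G.inv_mem hg), fun v => ?_⟩
  rw [mul_act, mul_act, hgf, Matrix.mulVec_add, act_inv, ← e, act_inv]

/-- The commutator of two quadratic elements. -/
theorem InA.comm (hf : InA G f) (hh : InA G h) (ff : ∀ v, f (f v) = 0) (hh0 : ∀ v, h (h v) = 0)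
    (e : ∀ v, c v = f (h v) - h (f v) + h (f (h v)) - f (h (f v)) + f (h (f (h v)))) :
    InA G c := by
  obtain ⟨g, hg, hgf⟩ := hf
  obtain ⟨g', hg', hgh⟩ := hh
  obtain ⟨k, hk, hkf⟩ := InA.neg ⟨g, hg, hgf⟩ ff
  obtain ⟨k', hk', hkh⟩ := InA.neg ⟨g', hg', hgh⟩ hh0
  refine ⟨g * g' * k * k', G.mul_mem (G.mul_mem (G.mul_mem hg hg') hk) hk', fun v => ?_⟩
  rw [mul_act, mul_act, mul_act, hkh, hkf, hgh, hgf, e]
  simp only [map_add, map_neg, LinearMap.neg_apply, ff, hh0, map_zero, neg_zero, add_zero,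
    neg_neg]
  abel

/-- A quadratic element of a group of isometries is skew. -/
theorem InA.skew (C : Space Q B) (hG : G ≤ isometryGroup F Q) (hf : InA G f)
    (e : ∀ v, f (f v) = 0) (u v : (ι → F)) : B (f u) v = -B u (f v) := by
  obtain ⟨g, hg, hgf⟩ := id hf
  obtain ⟨g', hg', hgn⟩ := hf.neg e
  have h1 : g.val *ᵥ (g'.val *ᵥ v) = v := by
    rw [hgn, LinearMap.neg_apply, hgf, map_add, map_neg, e]
    abel
  have h2 := C.B_act (hG hg) u (g'.val *ᵥ v)
  rw [h1, hgf, hgn, LinearMap.neg_apply, map_add, LinearMap.add_apply, map_add, map_neg] at h2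
  linear_combination h2

/-- A quadratic element of a group preserving the form is skew. -/
theorem InA.skew' (hG : ∀ g ∈ G, ∀ u v : ι → F, B (g.val *ᵥ u) (g.val *ᵥ v) = B u v) (hf : InA G f)
    (e : ∀ v, f (f v) = 0) (u v : (ι → F)) : B (f u) v = -B u (f v) := by
  obtain ⟨g, hg, hgf⟩ := id hf
  obtain ⟨g', hg', hgn⟩ := hf.neg e
  have h1 : g.val *ᵥ (g'.val *ᵥ v) = v := by
    rw [hgn, LinearMap.neg_apply, hgf, map_add, map_neg, e]
    abel
  have h2 := hG g hg u (g'.val *ᵥ v)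
  rw [h1, hgf, hgn, LinearMap.neg_apply, map_add, LinearMap.add_apply, map_add, map_neg] at h2
  linear_combination h2

/-- A quadratic element maps to the Siegel element. -/
theorem sGL_mem_of_inA (C : Space Q B) {u w : (ι → F)} (hu : Q u = 0) (hw : Q w = 0) (huw : B u w = 0)
    (h : InA G f) (e : ∀ v, f v = B u v • w - B w v • u) : sGL Q B u w ∈ G := by
  obtain ⟨g, hg, hgf⟩ := h
  have : g = sGL Q B u w := gl_ext fun v => by
    rw [hgf, e, sGL_act C hu huw, hw, zero_mul, add_zero]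
    abel
  exact this ▸ hg

/-- The translation of a Siegel element. -/
theorem inA_of_sGL (C : Space Q B) {u w : (ι → F)} (hu : Q u = 0) (hw : Q w = 0) (huw : B u w = 0)
    (h : sGL Q B u w ∈ G) (e : ∀ v, f v = B u v • w - B w v • u) : InA G f :=
  ⟨_, h, fun v => by rw [e, sGL_act C hu huw, hw, zero_mul, add_zero]; abel⟩

end Cfsg.Lib.Linear.SpTensor
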